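import Cfsg.Agent.Lib.HeUniq.Fus.Classes

/-! Checks on the codes of the centraliser for the Held branch. -/

set_option autoImplicit false
set_option maxRecDepth 100000

namespace Cfsg.Agent.TransvUniq.He

open Cfsg.Agent.HeUniq.Model Cfsg.Agent.HeUniq.Fus

/-- the code is in the class of the central involution, for the Held pattern -/
def zB (a : ℕ) : Bool := Nat.blt (cls a) 8 && (123 : ℕ).testBit (cls a)

/-- a candidate for the partner -/
def jOK (i : ℕ) : Bool :=
  inH 7 i && Nat.blt (cls (cd i)) 8 && !Nat.beq (cd i) (repC 7) && !zB (cd i) && !zB (mC (cd i) (repC 7)) &&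
    zB (mC zC (cd i)) && zB (mC zC (mC (cd i) (repC 7)))

/-- the element commutes with both -/
def both (i l : ℕ) : Bool := inH 7 l && Nat.beq (mC (cd l) (cd i)) (mC (cd i) (cd l))

/-- the candidates -/
def candB (i l : ℕ) : Bool :=
  !(inH 7 l && Nat.blt (cls (cd l)) 8 && !Nat.beq (cd l) (repC 7) && !zB (cd l) && !zB (mC (cd l) (repC 7))) ||
    Nat.beq (cd l) (cd i) || Nat.beq (cd l) (mC (cd i) (repC 7)) ||
    (!zB (mC zC (cd l)) && !zB (mC (mC zC (cd l)) (repC 7)))

/-- the involutions of the inner part -/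
def innerB (i l : ℕ) : Bool :=
  !(both i l && Nat.blt (cls (cd l)) 8) || Nat.beq (cd l) (repC 7) || Nat.beq (cd l) (cd i) ||
    Nat.beq (cd l) (mC (cd i) (repC 7)) ||
    (zB (cd l) || zB (mC (cd l) (repC 7)) || zB (mC (cd l) (cd i)) || zB (mC (cd l) (mC (cd i) (repC 7))))

/-- the squares of the inner part -/
def sqB (i l : ℕ) : Bool :=
  !both i l || !(Nat.beq (mC (cd l) (cd l)) (repC 7) || Nat.beq (mC (cd l) (cd l)) (cd i) ||
    Nat.beq (mC (cd l) (cd l)) (mC (cd i) (repC 7)))

/-- the checks of a candidate -/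
def jChk (i : ℕ) : Bool :=
  !jOK i || (allB (fun l => candB i l && innerB i l && sqB i l) 21504 && Nat.beq (cnt (both i) 21504) 256)

theorem jchk_ok : allB jChk 21504 = true := by decide +kernel

theorem rep_rows : Nat.beq (cls (mC zC (repC 7))) 7 = true ∧ Nat.beq (cls (mC zC (repC 2))) 0 = true := by
  decide +kernel

theorem bits : (123 : ℕ).testBit 2 = false ∧ (123 : ℕ).testBit 7 = false ∧ (123 : ℕ).testBit 0 = true ∧
    (∀ k < 8, (123 : ℕ).testBit k = false → k = 2 ∨ k = 7) := by decide

end Cfsg.Agent.TransvUniq.He
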