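import Cfsg.Agent.Lib.TransvUniq.Control.Basic
import Mathlib.GroupTheory.Perm.Cycle.Type
import Mathlib.GroupTheory.Index

/-!
When a subgroup contains the centraliser of an involution and controls its fusion as in the Held group, the
centraliser of an involution of the other class lies inside.
-/

set_option autoImplicit false
set_option linter.unusedSectionVars false
set_option linter.style.haveILetI false

namespace Cfsg.Agent.TransvUniq.He

open Subgroup

variable {G : Type*} [Group G] [Finite G]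

theorem conj_of_odd {p q : G} (hp : p * p = 1) (hq : q * q = 1) {k : ℕ} (h : (p * q) ^ (2 * k + 1) = 1) :
    (p * q) ^ (k + 1) * q * ((p * q) ^ (k + 1))⁻¹ = p := by
  have hqd : q * (p * q)⁻¹ * q⁻¹ = p * q := by
    rw [mul_inv_rev, inv_eq_of_mul_eq_one_right hp, inv_eq_of_mul_eq_one_right hq, ← mul_assoc q q, hq, one_mul]
  have hzd : q * ((p * q) ^ (k + 1))⁻¹ = (p * q) ^ (k + 1) * q := by
    have h' := congrArg (fun x => x ^ (k + 1)) hqd
    simp only [conj_pow] at h'
    rw [← inv_pow, ← h']; group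
  rw [mul_assoc, hzd, ← mul_assoc, ← pow_add, show k + 1 + (k + 1) = 2 * k + 1 + 1 by omega, pow_succ, h, one_mul,
    mul_assoc, hq, mul_one]

/-- Two involutions generate a dihedral group: either they are conjugate or they centralise an involution of it,
and then the product of the first with it is conjugate to the first or to the second. -/
theorem dihedral {p q : G} (hp : p * p = 1) (hq : q * q = 1) :
    (Odd (orderOf (p * q)) ∧ ∃ e : G, (∀ c, Commute c p → Commute c q → Commute c e) ∧ e * q * e⁻¹ = p) ∨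
    ∃ i : G, i * i = 1 ∧ i ≠ 1 ∧ Commute p i ∧ Commute q i ∧ (∀ c, Commute c p → Commute c q → Commute c i) ∧
      i ∈ zpowers (p * q) ∧
      ((∃ s : G, (∀ c, Commute c p → Commute c q → Commute c s) ∧ s * p * s⁻¹ = p * i) ∨
        ∃ e : G, (∀ c, Commute c p → Commute c q → Commute c e) ∧ e * q * e⁻¹ = p * i) := by
  have hpi : p⁻¹ = p := inv_eq_of_mul_eq_one_right hp
  have hqi : q⁻¹ = q := inv_eq_of_mul_eq_one_right hq
  rcases Nat.even_or_odd (orderOf (p * q)) with ⟨m, hm⟩ | ⟨k, hk⟩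
  swap
  · exact Or.inl ⟨⟨k, hk⟩, (p * q) ^ (k + 1), fun c h1 h2 => (h1.mul_right h2).pow_right _,
      conj_of_odd hp hq (by rw [← hk, pow_orderOf_eq_one])⟩
  refine Or.inr ⟨(p * q) ^ m, ?_, fun e => ?_, ?_, ?_, fun c h1 h2 => (h1.mul_right h2).pow_right _,
    pow_mem (mem_zpowers _) _, ?_⟩
  · rw [← pow_add, ← hm, pow_orderOf_eq_one]
  · have h0 : 0 < orderOf (p * q) := orderOf_pos _
    have := Nat.le_of_dvd (by omega) (orderOf_dvd_of_pow_eq_one e)
    omega
  all_goals
    set d := p * q with hd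
    have hdd : d ^ m * d ^ m = 1 := by rw [← pow_add, ← hm, pow_orderOf_eq_one]
    have hpd : p * d * p⁻¹ = d⁻¹ := by rw [hd, mul_inv_rev, hpi, hqi, ← mul_assoc, hp, one_mul]
    have hpw : Commute p (d ^ m) := by
      have h' : p * d ^ m * p⁻¹ = d ^ m := by rw [← conj_pow, hpd, inv_pow, inv_eq_of_mul_eq_one_right hdd]
      exact mul_inv_eq_iff_eq_mul.1 h'
    have hqw : Commute q (d ^ m) := by
      have : q = p * d := by rw [hd, ← mul_assoc, hp, one_mul]
      rw [this]
      exact hpw.mul_left (Commute.self_pow d m)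
  · exact hpw
  · exact hqw
  rcases Nat.even_or_odd m with ⟨j, hj⟩ | ⟨j, hj⟩
  · refine Or.inl ⟨d ^ j, fun c h1 h2 => (h1.mul_right h2).pow_right _, ?_⟩
    have hps : p * d ^ j * p⁻¹ = (d ^ j)⁻¹ := by rw [← conj_pow, hpd, inv_pow]
    calc d ^ j * p * (d ^ j)⁻¹ = d ^ j * (p * d ^ j * p⁻¹)⁻¹ * p := by group
      _ = d ^ m * p := by rw [hps, inv_inv, ← pow_add, hj]
      _ = p * d ^ m := hpw.eq.symm
  · refine Or.inr ⟨(p * d ^ m * q) ^ (j + 1), fun c h1 h2 =>
      ((h1.mul_right ((h1.mul_right h2).pow_right m)).mul_right h2).pow_right _, ?_⟩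
    refine conj_of_odd (by rw [mul_assoc, ← mul_assoc (d ^ m), ← hpw.eq, mul_assoc, hdd, mul_one, hp]) hq ?_
    rw [show p * d ^ m * q = d ^ (m + 1) by rw [hpw.eq, mul_assoc, ← hd, ← pow_succ],
      ← pow_mul, ← hj, show (m + 1) * m = (m + m) * (j + 1) by rw [hj]; ring, pow_mul, ← hm, pow_orderOf_eq_one,
      one_pow]

/-- The facts of the Held group used. -/
structure Cfg (H : Subgroup G) (t u j : G) : Prop where
  ctrl : Ctrl H t
  uu : u * u = 1
  jj : j * j = 1
  u1 : u ≠ 1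
  j1 : j ≠ 1
  uj : Commute u j
  tu : Commute t u
  tj : Commute t j
  nu : ¬ ZT t u
  nj : ¬ ZT t j
  nju : ¬ ZT t (j * u)
  ju : j ≠ u
  ntu : ¬ ZT t (t * u)
  ztj : ZT t (t * j)
  ztju : ZT t (t * (j * u))
  cand : ∀ i : G, i * i = 1 → i ≠ 1 → i ≠ u → Commute i t → Commute i u → ¬ ZT t i → ¬ ZT t (i * u) →
    i = j ∨ i = j * u ∨ (¬ ZT t (t * i) ∧ ¬ ZT t (t * i * u))
  inner : ∀ i : G, i * i = 1 → Commute i t → Commute i u → Commute i j → i ≠ 1 → i ≠ u → i ≠ j → i ≠ j * u →
    ZT t i ∨ ZT t (i * u) ∨ ZT t (i * j) ∨ ZT t (i * (j * u))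
  sqE : ∀ g : G, Commute g t → Commute g u → Commute g j →
    g * g = u ∨ g * g = j ∨ g * g = j * u → False
  twoGroup : Nat.card (centralizer ({t, u, j} : Set G)) ∣ 256
  five : ∃ a ∈ H, a ≠ 1 ∧ a ^ 5 = 1 ∧ Commute a u ∧ Commute a j
  seven : ∃ a ∈ H, a ≠ 1 ∧ a ^ 7 = 1 ∧ Commute a u ∧ Commute a j
  no35 : ∀ a ∈ H, ∀ b ∈ H, a ≠ 1 → b ≠ 1 → a ^ 5 = 1 → b ^ 7 = 1 → Commute a b → False

namespace Cfg

variable {H : Subgroup G} {t u j : G} (C : Cfg H t u j)

include C

theorem tt : t * t = 1 := C.ctrl.zz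

theorem uH : u ∈ H := C.ctrl.cent u C.tu.eq.symm

theorem jH : j ∈ H := C.ctrl.cent j C.tj.eq.symm

theorem ju_sq : j * u * (j * u) = 1 := by
  rw [mul_assoc, ← mul_assoc u j u, C.uj.eq, mul_assoc j u u, C.uu, mul_one, C.jj]

/-- The conjugation class does not meet the other translates. -/
theorem pattern {a : G} (ha : Commute a u) {e : G} (he : e = u ∨ e = j ∨ e = j * u) :
    a * t * a⁻¹ ≠ t * e := by
  intro h
  have h2 : a * (t * u) * a⁻¹ = t * e * u := by
    rw [← conj_mul, h, ha.eq, mul_inv_cancel_right]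
  have hn : ¬ ZT t (t * e * u) := fun hz => C.ntu (by
    have := hz.conj a⁻¹
    rwa [← h2, inv_inv, show a⁻¹ * (a * (t * u) * a⁻¹) * a = t * u by group] at this)
  rcases he with rfl | rfl | rfl
  · exact hn ⟨1, by rw [one_mul, inv_one, mul_one, mul_assoc, C.uu, mul_one]⟩
  · exact hn (by rw [mul_assoc]; exact C.ztju)
  · exact hn (by rw [mul_assoc, mul_assoc j u u, C.uu, mul_one]; exact C.ztj)

/-- An element outside commuting with the second involution gives one commuting with the fours group. -/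
theorem exists_outside {x : G} (hxu : Commute x u) (hx : x ∉ H) : ∃ g, Commute g u ∧ Commute g j ∧ g ∉ H := by
  set w := t * j with hw
  set q := x * w * x⁻¹ with hq
  have hwH : w ∈ H := mul_mem C.ctrl.mem C.jH
  have hqZ : ZT t q := C.ztj.conj x
  have hqH : q ∉ H := fun h => hx (C.ctrl.mem_of_conj C.ztj hwH h)
  have hwu : Commute w u := C.tu.mul_left C.uj.symm
  have hqu : Commute q u := (hxu.mul_left hwu).mul_left hxu.inv_left
  have hqu' : ZT t (q * u) := by
    have : q * u = x * (t * (j * u)) * x⁻¹ := by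
      rw [hq, ← mul_assoc t j u, show x * w * x⁻¹ * u = x * w * (x⁻¹ * u) by group, hxu.inv_left.eq,
        ← mul_assoc, hw, mul_assoc x (t * j) u]
    rw [this]; exact C.ztju.conj x
  rcases dihedral C.tt (hqZ.sq C.tt) with ⟨-, e, he, heq⟩ | ⟨i, hii, hi1, hti, hqi, hcom, -, hcase⟩
  · refine absurd ?_ C.ntu
    have := hqu'.conj e
    rwa [← conj_mul, heq, ← (he u C.tu.symm hqu.symm).eq, mul_inv_cancel_right] at this
  have hiu : Commute i u := (hcom u C.tu.symm hqu.symm).symm
  have hiH : i ∈ H := C.ctrl.cent i hti.eq.symm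
  have hiZ : ¬ ZT t i := fun h => hqH (C.ctrl.cent_le h hiH hqi.eq)
  have hiuZ : ¬ ZT t (i * u) := fun h => hqH (C.ctrl.cent_le h (mul_mem hiH C.uH) (hqi.mul_right hqu).eq)
  rcases hcase with ⟨s, hs, hsp⟩ | ⟨e, he, heq⟩
  · exfalso
    have hsu : Commute s u := (hs u C.tu.symm hqu.symm).symm
    rcases eq_or_ne i u with rfl | hiu'
    · exact C.ntu ⟨s, hsp⟩
    · rcases C.cand i hii hi1 hiu' hti.symm hiu hiZ hiuZ with e' | e' | ⟨e', -⟩
      · exact C.pattern hsu (Or.inr (Or.inl e')) hsp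
      · exact C.pattern hsu (Or.inr (Or.inr e')) hsp
      · exact e' ⟨s, hsp⟩
  · have heu : Commute e u := (he u C.tu.symm hqu.symm).symm
    have hei : Commute e i := (he i hti.symm hqi.symm).symm
    have hZ : ZT t (t * i) := heq ▸ hqZ.conj e
    have heH : e ∉ H := fun h => hqH (by
      have := mul_mem (mul_mem (inv_mem h) (mul_mem C.ctrl.mem hiH)) h
      rwa [← heq, show e⁻¹ * (e * q * e⁻¹) * e = q by group] at this)
    rcases eq_or_ne i u with rfl | hiu'
    · exact absurd hZ C.ntu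
    rcases C.cand i hii hi1 hiu' hti.symm hiu hiZ hiuZ with e' | e' | ⟨e', -⟩
    · exact ⟨e, heu, e' ▸ hei, heH⟩
    · refine ⟨e, heu, ?_, heH⟩
      have := hei.mul_right heu
      rwa [e', mul_assoc, C.uu, mul_one] at this
    · exact absurd hZ e'

/-- A translate of an involution of the inner part by the fours group is conjugate to `t`. -/
theorem exists_translate {i : G} (hii : i * i = 1) (hit : Commute i t) (hiu : Commute i u) (hij : Commute i j)
    (hE : ¬ (i = 1 ∨ i = u ∨ i = j ∨ i = j * u)) :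
    ∃ e, (e = 1 ∨ e = u ∨ e = j ∨ e = j * u) ∧ ZT t (i * e) := by
  simp only [not_or] at hE
  rcases C.inner i hii hit hiu hij hE.1 hE.2.1 hE.2.2.1 hE.2.2.2 with h | h | h | h
  · exact ⟨1, Or.inl rfl, by rwa [mul_one]⟩
  · exact ⟨u, Or.inr (Or.inl rfl), h⟩
  · exact ⟨j, Or.inr (Or.inr (Or.inl rfl)), h⟩
  · exact ⟨j * u, Or.inr (Or.inr (Or.inr rfl)), h⟩

theorem memE_comm {e g : G} (he : e = 1 ∨ e = u ∨ e = j ∨ e = j * u) (hu : Commute g u) (hj : Commute g j) :
    Commute g e := by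
  rcases he with rfl | rfl | rfl | rfl
  exacts [Commute.one_right g, hu, hj, hj.mul_right hu]

theorem memE_H {e : G} (he : e = 1 ∨ e = u ∨ e = j ∨ e = j * u) : e ∈ H := by
  rcases he with rfl | rfl | rfl | rfl
  exacts [one_mem _, C.uH, C.jH, mul_mem C.jH C.uH]

theorem memE_sq {e : G} (he : e = 1 ∨ e = u ∨ e = j ∨ e = j * u) : e * e = 1 := by
  rcases he with rfl | rfl | rfl | rfl
  exacts [mul_one 1, C.uu, C.jj, C.ju_sq]

/-- Two conjugates outside with product inside have product of odd order. -/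
theorem odd_of_prod {a b : G} (hau : Commute a u) (haj : Commute a j) (hbu : Commute b u) (hbj : Commute b j)
    (hv : a * t * a⁻¹ ∉ H) (hprod : a * t * a⁻¹ * (b * t * b⁻¹) ∈ H) :
    Odd (orderOf (a * t * a⁻¹ * (b * t * b⁻¹))) := by
  set q := a⁻¹ * b * t * (a⁻¹ * b)⁻¹ with hq
  have hcu : Commute (a⁻¹ * b) u := hau.inv_left.mul_left hbu
  have hcj : Commute (a⁻¹ * b) j := haj.inv_left.mul_left hbj
  have hqu : Commute q u := (hcu.mul_left C.tu).mul_left hcu.inv_left
  have hqj : Commute q j := (hcj.mul_left C.tj).mul_left hcj.inv_left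
  have hprod' : a * t * a⁻¹ * (b * t * b⁻¹) = a * (t * q) * a⁻¹ := by rw [hq]; group
  rw [hprod'] at hprod ⊢
  rw [← MulAut.conj_apply, MulEquiv.orderOf_eq]
  by_contra hodd
  have hqq : q * q = 1 := by
    rw [hq, conj_mul, C.tt, mul_one, mul_inv_cancel]
  rcases dihedral C.tt hqq with ⟨ho, -⟩ | ⟨i, hii, hi1, hti, hqi, hcom, hiz, hcase⟩
  · exact hodd ho
  · have hiu : Commute i u := (hcom u C.tu.symm hqu.symm).symm
    have hij : Commute i j := (hcom j C.tj.symm hqj.symm).symm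
    by_cases hE : i = 1 ∨ i = u ∨ i = j ∨ i = j * u
    · have hE' := hE.resolve_left hi1
      rcases hcase with ⟨s, hs, hsp⟩ | ⟨e, he, heq⟩
      · exact C.pattern (hs u C.tu.symm hqu.symm).symm hE' hsp
      · refine C.pattern (a := e * (a⁻¹ * b)) ((he u C.tu.symm hqu.symm).symm.mul_left hcu) hE' ?_
        rw [← heq, hq]; group
    · obtain ⟨e, he, hz⟩ := C.exists_translate hii hti.symm hiu hij hE
      have hiH : a * i * a⁻¹ ∈ H := by
        obtain ⟨k, rfl⟩ := mem_zpowers_iff.1 hiz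
        rw [← conj_zpow]; exact zpow_mem hprod k
      have hae : Commute a e := C.memE_comm he hau haj
      have hy : a * i * a⁻¹ * e = a * (i * e) * a⁻¹ := by
        rw [mul_assoc (a * i), hae.inv_left.eq]; group
      refine hv (C.ctrl.cent_le (hy ▸ hz.conj a) (mul_mem hiH (C.memE_H he)) ?_)
      have hte : Commute t e := C.memE_comm he C.tu C.tj
      show a * t * a⁻¹ * (a * i * a⁻¹ * e) = a * i * a⁻¹ * e * (a * t * a⁻¹)
      rw [hy, conj_mul, conj_mul, (hti.mul_right hte).eq]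

set_option maxHeartbeats 1000000 in
/-- The centraliser of the fours group is inside. -/
theorem centE_le {g₀ : G} (hgu : Commute g₀ u) (hgj : Commute g₀ j) : g₀ ∈ H := by
  classical
  by_contra hg₀
  let K : Subgroup G := centralizer ({u, j} : Set G)
  have memK : ∀ {x : G}, x ∈ K ↔ Commute x u ∧ Commute x j := fun {x} => by
    simp only [K, mem_centralizer_iff, Set.mem_insert_iff, Set.mem_singleton_iff, forall_eq_or_imp, forall_eq]
    exact ⟨fun h => ⟨h.1.symm, h.2.symm⟩, fun h => ⟨h.1.symm, h.2.symm⟩⟩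
  let HK : Subgroup G := H ⊓ K
  let Z : Subgroup G := centralizer ({t, u, j} : Set G)
  have memZ : ∀ {x : G}, x ∈ Z ↔ Commute x t ∧ Commute x u ∧ Commute x j := fun {x} => by
    simp only [Z, mem_centralizer_iff, Set.mem_insert_iff, Set.mem_singleton_iff, forall_eq_or_imp, forall_eq]
    exact ⟨fun h => ⟨h.1.symm, h.2.1.symm, h.2.2.symm⟩, fun h => ⟨h.1.symm, h.2.1.symm, h.2.2.symm⟩⟩
  have hZle : Z ≤ HK := fun x hx =>
    ⟨C.ctrl.cent x (memZ.1 hx).1.eq, memK.2 ⟨(memZ.1 hx).2.1, (memZ.1 hx).2.2⟩⟩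
  have hHKle : HK ≤ K := inf_le_right
  -- the class and the cosets
  let cl : K ⧸ Z.subgroupOf K → G := Quotient.lift (fun x : K => (x : G) * t * (x : G)⁻¹) fun a b hab => by
    have hab' : a⁻¹ * b ∈ Z.subgroupOf K := QuotientGroup.leftRel_apply.1 hab
    have hc : Commute ((a : G)⁻¹ * b) t := (memZ.1 hab').1
    calc (a : G) * t * (a : G)⁻¹ = (a : G) * (t * ((a : G)⁻¹ * b)) * (b : G)⁻¹ := by group
      _ = (a : G) * (((a : G)⁻¹ * b) * t) * (b : G)⁻¹ := by rw [hc.eq]
      _ = (b : G) * t * (b : G)⁻¹ := by group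
  have hcl : Function.Injective cl := by
    intro x y
    induction x using QuotientGroup.induction_on with
    | H a => induction y using QuotientGroup.induction_on with
      | H b =>
        intro h
        have h' : (a : G) * t * (a : G)⁻¹ = (b : G) * t * (b : G)⁻¹ := h
        refine QuotientGroup.eq.2 (memZ.2 ⟨?_, (memK.1 (a⁻¹ * b).2).1, (memK.1 (a⁻¹ * b).2).2⟩)
        show (a : G)⁻¹ * b * t = t * ((a : G)⁻¹ * b)
        calc (a : G)⁻¹ * b * t = (a : G)⁻¹ * ((b : G) * t * (b : G)⁻¹) * b := by group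
          _ = (a : G)⁻¹ * ((a : G) * t * (a : G)⁻¹) * b := by rw [h']
          _ = t * ((a : G)⁻¹ * b) := by group
  obtain ⟨N, hN⟩ : ∃ N, Z.relIndex HK = N := ⟨_, rfl⟩
  obtain ⟨n, hn⟩ : ∃ n, HK.relIndex K = n := ⟨_, rfl⟩
  have hX : Nat.card (K ⧸ Z.subgroupOf K) = N * n := by
    rw [← hN, ← hn, relIndex_mul_relIndex _ _ _ hZle hHKle]; rfl
  have hn2 : 2 ≤ n := by
    have h0 : n ≠ 0 := by
      rw [← hn]; exact Subgroup.index_ne_zero_of_finite
    have h1 : n ≠ 1 := fun h => hg₀ ((relIndex_eq_one.1 (hn.trans h)) (memK.2 ⟨hgu, hgj⟩)).1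
    omega
  have hcard : Nat.card HK = Nat.card Z * N := by
    rw [← hN, ← Subgroup.card_mul_index (Z.subgroupOf HK), Nat.card_congr (subgroupOfEquivOfLe hZle).toEquiv]
    rfl
  have hN0 : 0 < N := by
    rw [← hN]; exact Nat.pos_of_ne_zero Subgroup.index_ne_zero_of_finite
  -- the conjugates inside
  let inside : K ⧸ Z.subgroupOf K → Prop := fun c => cl c ∈ H
  let toC : HK ⧸ Z.subgroupOf HK → {c // inside c} := Quotient.lift
    (fun x : HK => ⟨QuotientGroup.mk (⟨(x : G), x.2.2⟩ : K),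
      mul_mem (mul_mem x.2.1 C.ctrl.mem) (inv_mem x.2.1)⟩)
    fun a b hab => Subtype.ext (QuotientGroup.eq.2
      (show (a : G)⁻¹ * (b : G) ∈ Z from (QuotientGroup.leftRel_apply.1 hab : _)))
  have htoC : Function.Bijective toC := by
    constructor
    · intro x y
      induction x using QuotientGroup.induction_on with
      | H a => induction y using QuotientGroup.induction_on with
        | H b =>
          intro h
          refine QuotientGroup.eq.2 (show (a : G)⁻¹ * (b : G) ∈ Z from ?_)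
          have h' : (QuotientGroup.mk (⟨(a : G), a.2.2⟩ : K) : K ⧸ Z.subgroupOf K) =
            QuotientGroup.mk (⟨(b : G), b.2.2⟩ : K) := Subtype.ext_iff.1 h
          have h'' := QuotientGroup.eq.1 h'
          exact h''
    · rintro ⟨c, hc⟩
      induction c using QuotientGroup.induction_on with
      | H a =>
        exact ⟨QuotientGroup.mk (⟨(a : G), C.ctrl.mem_of_conj ⟨1, by group⟩ C.ctrl.mem hc, a.2⟩ : HK), rfl⟩
  have hinC : Nat.card {c // inside c} = N := by
    rw [← Nat.card_congr (Equiv.ofBijective toC htoC), ← hN]; rfl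
  have hout : Nat.card {c // ¬ inside c} = N * (n - 1) := by
    have := Nat.card_congr (Equiv.sumCompl inside)
    rw [Nat.card_sum, hinC, hX] at this
    rw [Nat.mul_sub_one]
    have : N ≤ N * n := Nat.le_mul_of_pos_right _ (by omega)
    omega
  have clK : ∀ c, cl c ∈ K ∧ cl c * cl c = 1 ∧ ∃ a : G, Commute a u ∧ Commute a j ∧ a * t * a⁻¹ = cl c := by
    intro c
    induction c using QuotientGroup.induction_on with
    | H a =>
      exact ⟨mul_mem (mul_mem a.2 (memK.2 ⟨C.tu, C.tj⟩)) (inv_mem a.2),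
        by show (a : G) * t * (a : G)⁻¹ * ((a : G) * t * (a : G)⁻¹) = 1
           rw [conj_mul, C.tt, mul_one, mul_inv_cancel],
        a, (memK.1 a.2).1, (memK.1 a.2).2, rfl⟩
  let ψ : {c // ¬ inside c} → K ⧸ HK.subgroupOf K := fun c => QuotientGroup.mk ⟨cl c.1, (clK c.1).1⟩
  obtain ⟨β, hβ⟩ : ∃ β, N ≤ Nat.card {c // ψ c = β} := by
    by_contra hlt
    push Not at hlt
    haveI : Fintype (K ⧸ HK.subgroupOf K) := Fintype.ofFinite _
    have hsum : Nat.card {c // ¬ inside c} = ∑ β, Nat.card {c // ψ c = β} := by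
      exact (Nat.card_congr (Equiv.sigmaFiberEquiv ψ)).symm.trans Nat.card_sigma
    have hzero : Nat.card {c // ψ c = QuotientGroup.mk 1} = 0 := by
      haveI : IsEmpty {c // ψ c = QuotientGroup.mk 1} := ⟨fun ⟨c, hc⟩ => by
        have h := QuotientGroup.eq.1 hc.symm
        rw [inv_one, one_mul] at h
        exact c.2 h.1⟩
      exact Nat.card_of_isEmpty
    rw [← Finset.sum_erase (f := fun β => Nat.card {c // ψ c = β}) Finset.univ hzero] at hsum
    have hb := Finset.sum_le_card_nsmul (Finset.univ.erase (QuotientGroup.mk 1))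
      (fun β => Nat.card {c // ψ c = β}) (N - 1) (fun β _ => by have := hlt β; omega)
    rw [← hsum, hout, Finset.card_erase_of_mem (Finset.mem_univ _), Finset.card_univ, ← Nat.card_eq_fintype_card,
      show Nat.card (K ⧸ HK.subgroupOf K) = n from hn, smul_eq_mul, Nat.mul_comm (n - 1)] at hb
    have := Nat.le_of_mul_le_mul_right hb (by omega : 0 < n - 1)
    omega
  obtain ⟨⟨c₀, hc₀⟩⟩ : Nonempty {c // ψ c = β} := (Nat.card_pos_iff.1 (by omega)).1
  set y := cl c₀.1 with hy
  obtain ⟨hyK, hyy, a₀, ha₀u, ha₀j, ha₀⟩ := clK c₀.1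
  have hyi : y⁻¹ = y := inv_eq_of_mul_eq_one_right hyy
  have hyH : y ∉ H := c₀.2
  -- the stabiliser of two points
  let D : Subgroup G := HK ⊓ HK.comap (MulAut.conj y).toMonoidHom
  have memD : ∀ {x : G}, x ∈ D ↔ x ∈ HK ∧ y * x * y⁻¹ ∈ HK := fun {x} => Iff.rfl
  have hIinH : ∀ c : {c // ψ c = β}, y * cl c.1.1 ∈ HK := fun c => by
    have h := QuotientGroup.eq.1 (hc₀.trans c.2.symm)
    have h' : y⁻¹ * cl c.1.1 ∈ HK := h
    rwa [hyi] at h'
  have hIinD : ∀ c : {c // ψ c = β}, y * cl c.1.1 ∈ D ∧ Odd (orderOf (y * cl c.1.1)) ∧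
      y * (y * cl c.1.1) * y⁻¹ = (y * cl c.1.1)⁻¹ := by
    intro c
    obtain ⟨-, hcc, b, hbu, hbj, hb⟩ := clK c.1.1
    have hinv : y * (y * cl c.1.1) * y⁻¹ = (y * cl c.1.1)⁻¹ := by
      rw [mul_inv_rev, inv_eq_of_mul_eq_one_right hcc, ← mul_assoc y y, hyy, one_mul]
    refine ⟨memD.2 ⟨hIinH c, hinv ▸ inv_mem (hIinH c)⟩, ?_, hinv⟩
    have := C.odd_of_prod ha₀u ha₀j hbu hbj (by rw [ha₀]; exact hyH) (by rw [ha₀, hb]; exact (hIinH c).1)
    rwa [ha₀, hb] at this
  have hyu : Commute y u := (memK.1 hyK).1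
  have hyj : Commute y j := (memK.1 hyK).2
  have hZD : ∀ g, g ∈ Z → g ∈ D → g = 1 ∨ g = u ∨ g = j ∨ g = j * u := by
    have key : ∀ k : ℕ, ∀ g, g ∈ Z → g ∈ D → g ^ 2 ^ k = 1 → g = 1 ∨ g = u ∨ g = j ∨ g = j * u := by
      intro k
      induction k with
      | zero => intro g _ _ h; rw [pow_zero, pow_one] at h; exact Or.inl h
      | succ k ih =>
        intro g hgZ hgD hg
        obtain ⟨hgt, hgu', hgj'⟩ := memZ.1 hgZ
        have hsq := ih (g * g) (mul_mem hgZ hgZ) (mul_mem hgD hgD) (by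
          rw [← pow_two, ← pow_mul, ← pow_succ']; exact hg)
        have hgg : g * g = 1 := hsq.resolve_right fun h => C.sqE g hgt hgu' hgj' h
        by_contra hE
        obtain ⟨e, he, hz⟩ := C.exists_translate hgg hgt hgu' hgj' hE
        obtain ⟨h1, h2⟩ := memD.1 hgD
        have heH : e ∈ H := C.memE_H he
        have hye : Commute y e := C.memE_comm he hyu hyj
        refine hyH (C.ctrl.mem_of_conj hz (mul_mem h1.1 heH) ?_)
        rw [show y * (g * e) * y⁻¹ = y * g * y⁻¹ * (y * e * y⁻¹) by group, hye.eq, mul_inv_cancel_right]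
        exact mul_mem h2.1 heH
    intro g hgZ hgD
    refine key 8 g hgZ hgD ?_
    have := orderOf_dvd_natCard (⟨g, hgZ⟩ : Z)
    rw [Subgroup.orderOf_mk] at this
    exact orderOf_dvd_iff_pow_eq_one.1 ((this.trans C.twoGroup).trans (by norm_num))
  let E : Type _ := {e : G // e = 1 ∨ e = u ∨ e = j ∨ e = j * u}
  have hju1 : j * u ≠ 1 := fun e => C.ju ((eq_inv_of_mul_eq_one_left e).trans (inv_eq_of_mul_eq_one_right C.uu))
  have cardE : Nat.card E = 4 := by
    let v : Fin 4 → G := ![1, u, j, j * u]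
    have hv : Function.Injective v := by
      have h1 := C.u1; have h2 := C.j1; have h3 := C.ju
      have h4 : j * u ≠ u := fun e => C.j1 (mul_eq_right.1 e)
      have h5 : j * u ≠ j := fun e => C.u1 (mul_eq_left.1 e)
      intro a b h
      fin_cases a <;> fin_cases b <;> simp only [v] at h <;>
        first
        | rfl
        | exact absurd h h1
        | exact absurd h.symm h1
        | exact absurd h h2
        | exact absurd h.symm h2
        | exact absurd h h3
        | exact absurd h.symm h3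
        | exact absurd h h4
        | exact absurd h.symm h4
        | exact absurd h h5
        | exact absurd h.symm h5
        | exact absurd h hju1
        | exact absurd h.symm hju1
    rw [← Nat.card_congr (Equiv.ofBijective (fun i : Fin 4 => (⟨v i, by fin_cases i <;> simp [v]⟩ : E))
      ⟨fun a b h => hv (congrArg Subtype.val h), fun ⟨e, he⟩ => by
        rcases he with rfl | rfl | rfl | rfl
        exacts [⟨0, rfl⟩, ⟨1, rfl⟩, ⟨2, rfl⟩, ⟨3, rfl⟩]⟩), Nat.card_fin]
  have hDK : ∀ d : D, (d : G) ∈ K := fun d => d.2.1.2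
  have hDlow : Nat.card D ≤ N * 4 := by
    have hfac : ∀ d d' : D, cl (QuotientGroup.mk ⟨(d : G), hDK d⟩) = cl (QuotientGroup.mk ⟨(d' : G), hDK d'⟩) →
        (d : G)⁻¹ * d' = 1 ∨ (d : G)⁻¹ * d' = u ∨ (d : G)⁻¹ * d' = j ∨ (d : G)⁻¹ * d' = j * u := fun d d' h =>
      hZD _ (show (d : G)⁻¹ * d' ∈ Z by
        have h' := QuotientGroup.eq.1 (hcl h)
        exact h') (mul_mem (inv_mem d.2) d'.2)
    have himg : ∀ d : D, inside (QuotientGroup.mk ⟨(d : G), hDK d⟩) := fun d =>
      mul_mem (mul_mem d.2.1.1 C.ctrl.mem) (inv_mem d.2.1.1)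
    let img : D → {c // inside c} := fun d => ⟨_, himg d⟩
    have hr : ∀ d : D, ∃ d' : D, img d' = img d := fun d => ⟨d, rfl⟩
    let rep : {c // ∃ d, img d = c} → D := fun c => c.2.choose
    have hrep : ∀ (d : D), img (rep ⟨img d, d, rfl⟩) = img d := fun d =>
      (⟨d, rfl⟩ : ∃ d', img d' = img d).choose_spec
    let φ : D → {c // inside c} × E := fun d => (img d, ⟨(rep ⟨img d, d, rfl⟩ : G)⁻¹ * d,
      hfac _ d (congrArg cl (congrArg Subtype.val (hrep d)))⟩)
    have hφ : Function.Injective φ := fun d d' h => by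
      have h1 : img d = img d' := congrArg Prod.fst h
      have h2 : (rep ⟨img d, d, rfl⟩ : G)⁻¹ * d = (rep ⟨img d', d', rfl⟩ : G)⁻¹ * d' :=
        congrArg (fun p : {c // inside c} × E => p.2.1) h
      have h3 : rep ⟨img d, d, rfl⟩ = rep ⟨img d', d', rfl⟩ := congrArg rep (Subtype.ext h1)
      rw [h3] at h2
      exact Subtype.ext (mul_left_cancel h2)
    calc Nat.card D ≤ Nat.card ({c // inside c} × E) := Nat.card_le_card_of_injective φ hφ
      _ = N * 4 := by rw [Nat.card_prod, hinC, cardE]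
  let Φ : {c // ψ c = β} × E → D := fun p => ⟨y * cl p.1.1.1 * p.2.1, mul_mem (hIinD p.1).1 (memD.2
    ⟨⟨C.memE_H p.2.2, memK.2 ⟨(C.memE_comm p.2.2 (Commute.refl u) C.uj).symm,
      (C.memE_comm p.2.2 C.uj.symm (Commute.refl j)).symm⟩⟩, by
      rw [(C.memE_comm p.2.2 hyu hyj).eq, mul_inv_cancel_right]
      exact ⟨C.memE_H p.2.2, memK.2 ⟨(C.memE_comm p.2.2 (Commute.refl u) C.uj).symm,
        (C.memE_comm p.2.2 C.uj.symm (Commute.refl j)).symm⟩⟩⟩)⟩
  have hcommE : ∀ {x e : G}, x ∈ HK → (e = 1 ∨ e = u ∨ e = j ∨ e = j * u) → Commute x e := fun hx he =>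
    C.memE_comm he (memK.1 hx.2).1 (memK.1 hx.2).2
  have oddE : ∀ {x e : G}, x ∈ HK → (e = 1 ∨ e = u ∨ e = j ∨ e = j * u) → Odd (orderOf x) →
      Odd (orderOf (x * e)) → e = 1 := by
    intro x e hx he ho ho'
    have hce := hcommE hx he
    obtain ⟨k, hk⟩ := ho.mul ho'
    have h1 : (x * e) ^ (orderOf x * orderOf (x * e)) = 1 := by
      rw [mul_comm, pow_mul, pow_orderOf_eq_one, one_pow]
    rw [hce.mul_pow, pow_mul, pow_orderOf_eq_one, one_pow, one_mul, hk, pow_succ, pow_mul, pow_two,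
      C.memE_sq he, one_pow, one_mul] at h1
    exact h1
  have hΦ : Function.Injective Φ := by
    rintro ⟨c, e, he⟩ ⟨c', e', he'⟩ h
    have h' : y * cl c.1.1 * e = y * cl c'.1.1 * e' := congrArg Subtype.val h
    have hee : e = e' := by
      have hce := hcommE (hIinD c).1.1 he'
      have hx : y * cl c.1.1 * (e * e') = y * cl c'.1.1 := by
        rw [← mul_assoc, h', mul_assoc, C.memE_sq he', mul_one]
      have hEE : e * e' = 1 ∨ e * e' = u ∨ e * e' = j ∨ e * e' = j * u := by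
        have hu := C.uu; have hj := C.jj; have hju := C.uj.eq
        have a1 : u * (j * u) = j := by rw [← mul_assoc, hju, mul_assoc, hu, mul_one]
        have a2 : j * (j * u) = u := by rw [← mul_assoc, hj, one_mul]
        have a3 : j * u * u = j := by rw [mul_assoc, hu, mul_one]
        have a4 : j * u * j = u := by rw [mul_assoc, hju, ← mul_assoc, hj, one_mul]
        rcases he with rfl | rfl | rfl | rfl <;> rcases he' with rfl | rfl | rfl | rfl <;>
          simp [hu, hj, hju, a1, a2, a3, a4, C.ju_sq]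
      have := oddE (hIinD c).1.1 hEE (hIinD c).2.1 (by rw [hx]; exact (hIinD c').2.1)
      exact (eq_inv_of_mul_eq_one_left this).trans (inv_eq_of_mul_eq_one_right (C.memE_sq he'))
    subst hee
    have hc : cl c.1.1 = cl c'.1.1 := mul_left_cancel (mul_right_cancel h')
    exact Prod.ext (Subtype.ext (Subtype.ext (hcl hc))) rfl
  have hbij : Function.Bijective Φ := hΦ.bijective_of_nat_card_le (by
    rw [Nat.card_prod, cardE]
    exact hDlow.trans (Nat.mul_le_mul_right 4 hβ))
  have hinvOdd : ∀ x : D, Odd (orderOf (x : G)) → y * (x : G) * y⁻¹ = (x : G)⁻¹ := by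
    intro x hx
    obtain ⟨⟨c, e, he⟩, rfl⟩ := hbij.2 x
    have he1 := oddE (hIinD c).1.1 he (hIinD c).2.1 hx
    subst he1
    show y * (y * cl c.1.1 * 1) * y⁻¹ = (y * cl c.1.1 * 1)⁻¹
    rw [mul_one]
    exact (hIinD c).2.2
  have hcardD : Nat.card D = N * 4 := le_antisymm hDlow (by
    rw [← cardE]
    calc N * Nat.card E ≤ Nat.card {c // ψ c = β} * Nat.card E := Nat.mul_le_mul_right _ hβ
      _ = Nat.card ({c // ψ c = β} × E) := (Nat.card_prod _ _).symm
      _ ≤ Nat.card D := Nat.card_le_card_of_injective Φ hΦ)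
  have hfind : ∀ p : ℕ, p.Prime → Nat.Coprime p 256 → (∃ a ∈ H, a ≠ 1 ∧ a ^ p = 1 ∧ Commute a u ∧ Commute a j) →
      ∃ d : D, orderOf d = p := by
    intro p hp hcop ⟨a, haH, ha1, hap, hau, haj⟩
    haveI := Fact.mk hp
    have hd : p ∣ Nat.card HK := by
      rw [← orderOf_eq_prime hap ha1, ← Subgroup.orderOf_mk (H := HK) a ⟨haH, memK.2 ⟨hau, haj⟩⟩]
      exact orderOf_dvd_natCard _
    rw [hcard] at hd
    have hpN : p ∣ N := (hcop.coprime_dvd_right C.twoGroup).dvd_of_dvd_mul_left hd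
    exact exists_prime_orderOf_dvd_card' p (hcardD ▸ hpN.mul_right 4)
  obtain ⟨a, ha⟩ := hfind 5 (by norm_num) (by norm_num) C.five
  obtain ⟨b, hb⟩ := hfind 7 (by norm_num) (by norm_num) C.seven
  have ha' : orderOf (a : G) = 5 := by rw [Subgroup.orderOf_coe, ha]
  have hb' : orderOf (b : G) = 7 := by rw [Subgroup.orderOf_coe, hb]
  -- the commutator of two elements of odd order is trivial
  have hab : Commute (a : G) (b : G) := by
    obtain ⟨⟨c, e, he⟩, hce⟩ := hbij.2 (a * b)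
    have hprod : (a : G) * b = y * cl c.1.1 * e := (congrArg Subtype.val hce).symm
    have hiy : y * ((a : G) * b) * y⁻¹ = (y * cl c.1.1)⁻¹ * e := by
      rw [hprod, ← conj_mul, (hIinD c).2.2, (C.memE_comm he hyu hyj).eq, mul_inv_cancel_right]
    have hia : y * ((a : G) * b) * y⁻¹ = (a : G)⁻¹ * (b : G)⁻¹ := by
      rw [← conj_mul, hinvOdd a (by rw [ha']; decide), hinvOdd b (by rw [hb']; decide)]
    have hrev : ((a : G) * b)⁻¹ = (y * cl c.1.1)⁻¹ * e := by
      rw [hprod, mul_inv_rev, inv_eq_of_mul_eq_one_right (C.memE_sq he)]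
      exact (hcommE (inv_mem (hIinD c).1.1) he).eq.symm
    have h : ((a : G) * b)⁻¹ = (a : G)⁻¹ * (b : G)⁻¹ := hrev.trans (hiy.symm.trans hia)
    rw [← mul_inv_rev] at h
    exact inv_injective h
  refine C.no35 _ a.2.1.1 _ b.2.1.1 (fun e => ?_) (fun e => ?_) ?_ ?_ hab
  · rw [e, orderOf_one] at ha'; norm_num at ha'
  · rw [e, orderOf_one] at hb'; norm_num at hb'
  · rw [← ha']; exact pow_orderOf_eq_one _
  · rw [← hb']; exact pow_orderOf_eq_one _

/-- The centraliser of the second involution is inside. -/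
theorem cent_le {x : G} (hx : x * u = u * x) : x ∈ H := by
  by_contra h
  obtain ⟨g, hgu, hgj, hg⟩ := C.exists_outside hx h
  exact hg (C.centE_le hgu hgj)

end Cfg

end Cfsg.Agent.TransvUniq.He
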