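import Cfsg.Agent.Lib.HeUniq.Local.Glue
import Cfsg.Agent.Lib.HeUniq.Local.Exists
import Cfsg.Agent.Lib.HeUniq.Rel.Main
import Cfsg.Agent.Lib.RigidGraph.He.Invol.Iso

/-!
The Held branch: the group on 2058 points embeds with its involution on the given one, whatever the order of
the group.
-/

set_option autoImplicit false
set_option maxRecDepth 100000
set_option linter.constructorNameAsVariable false

namespace Cfsg.Agent.TransvUniq.He

open Cfsg.Agent.HeUniq.Model Cfsg.Agent.HeUniq.Local Cfsg.Agent.HeUniq.Glue Cfsg.Agent.HeUniq.Rel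
open Cfsg.Agent.CosetCert (wprod wprod_cons wprod_nil wprod_rep wprod_append wprod_reverse pairsOK extraOK
  pairWord eq_of_wordEq coxLabel_self)
open Cfsg.Agent.HeUniq.Fus (mask)

variable {G : Type*} [Group G]

/-- the amalgam keeps the coordinates of the centraliser -/
theorem exists_amalgam {t : G} {F : Frame G t} (S0 : Side F) (S1 : Side F.twist) :
    Nonempty {A : Amalgam G // A.fC = F.f} := by
  obtain ⟨v, hv, hs⟩ := exists_cand S0 S1
  rcases cand_cases S0 S1 hv hs with rfl | rfl
  · rw [facts.2.2.1] at hs
    exact ⟨⟨{ fC := F.f, f0 := S0.g, f1 := S1.g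
              mulC := fun i hi j hj => F.mul (inC_cd hi) (inC_cd hj)
              injC := fun i hi j hj => F.inj (inC_cd hi) (inC_cd hj)
              mul0 := S0.mul, mul1 := S1.mul
              pair0 := S0.pair, pair1 := S1.pair
              glue := hs.symm }, rfl⟩⟩
  · have htt : t * t = 1 := by
      rw [← F.fz, ← F.mul inC_z inC_z, show mC zC zC = oneC by unfold mC; decide +kernel, F.one]
    have ht1 : S1.g (md 1) = t := by
      have hT := allB_spec trans_ok 1 (by norm_num)
      simp only [transOK, Bool.and_eq_true, Nat.blt_eq, Nat.beq_eq] at hT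
      obtain ⟨⟨⟨⟨⟨⟨⟨⟨⟨hj, -⟩, hp⟩, -⟩, -⟩, -⟩, -⟩, -⟩, -⟩, -⟩ := hT
      rw [← hp, S1.pair _ hj]
      show F.f (theta (pC (tPair.getD 1 0))) = t
      rw [facts.2.2.2.2.2.1, F.fz]
    have hs' : InM s0 := facts.2.1 ▸ inM_md (by norm_num)
    refine ⟨⟨{ fC := F.f, f0 := S0.g, f1 := fun a => t * S1.g a * t
               mulC := fun i hi j hj => F.mul (inC_cd hi) (inC_cd hj)
               injC := fun i hi j hj => F.inj (inC_cd hi) (inC_cd hj)
               mul0 := S0.mul, mul1 := ?_
               pair0 := S0.pair, pair1 := ?_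
               glue := ?_ }, rfl⟩⟩
    · intro a b ha hb
      calc t * S1.g (mM a b) * t = t * S1.g a * 1 * S1.g b * t := by rw [S1.mul a b ha hb, mul_one, ← mul_assoc]
        _ = _ := by rw [← htt]; simp only [mul_assoc]
    · intro j hj
      show t * S1.g (pM j) * t = _
      rw [S1.pair j hj]
      show t * F.f (theta (pC j)) * t = F.f (theta (pC j))
      rw [← F.cent (inC_pC hj).theta, mul_assoc, htt, mul_one]
    · show t * S1.g s0 * t = S0.g s0
      rw [hs, facts.2.2.2.2.1, S1.mul _ _ (inM_md (by norm_num)) (inM_md (by norm_num)), facts.2.2.2.1,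
        S1.mul _ _ (inM_md (by norm_num)) hs', ht1]

/-- an amalgam gives a homomorphism of the presented group carrying the generators to their words -/
theorem exists_presented_hom (A : Amalgam G) :
    ∃ φ : Cfsg.Spor.He →* G, ∀ a : Cfsg.Spor.He.Gen,
      φ (PresentedGroup.of a) = gval A (Cfsg.Agent.CosetData.HeH.ix a) := by
  classical
  set S := Cfsg.Agent.CosetData.HeH.setup
  let f : Cfsg.Spor.He.Gen → G := fun a => gval A (Cfsg.Agent.CosetData.HeH.ix a)
  have hlt : ∀ a, Cfsg.Agent.CosetData.HeH.ix a < 7 := fun a => by cases a <;> decide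
  have hinv : ∀ a, f a * f a = 1 := fun a => gval_invol A _ (hlt a)
  have hgi : ∀ x < 7, f (Cfsg.Agent.CosetData.HeH.gi x) = gval A x := fun x hx => by
    interval_cases x <;> rfl
  have hrels : ∀ r ∈ Cfsg.Spor.coxRelators Cfsg.Spor.He.edges ∪ {r | r ∈ Cfsg.Spor.He.extra},
      FreeGroup.lift f r = 1 := by
    rintro r (⟨a, -, b, -, rfl⟩ | hr)
    · rw [map_pow, map_mul, FreeGroup.lift_apply_of, FreeGroup.lift_apply_of]
      by_cases hab : a = b
      · subst hab; rw [coxLabel_self, pow_one]; exact hinv a
      have h := S.pairs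
      simp only [pairsOK, List.all_eq_true, Bool.and_eq_true, Bool.or_eq_true, Nat.beq_eq,
        List.any_eq_true, List.mem_range] at h
      rcases (h _ (S.ix_lt a)).2 _ (S.ix_lt b) with h1 | ⟨w, hw, he⟩
      · exact absurd (by rw [← S.gi_ix a, h1, S.gi_ix]) hab
      have hrev : ∀ w : List ℕ, (∀ x ∈ w, x < 7) → wprod (gval A) w.reverse = (wprod (gval A) w)⁻¹ := by
        intro w
        induction w with
        | nil => intro _; simp [wprod_nil]
        | cons x w ih =>
          intro hw
          rw [List.reverse_cons, wprod_append, ih fun y hy => hw y (List.mem_cons_of_mem _ hy), wprod_cons,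
            wprod_cons, wprod_nil, mul_one, mul_inv_rev,
            inv_eq_of_mul_eq_one_right (gval_invol A x (hw x List.mem_cons_self))]
      have h2 : wprod (gval A) (pairWord S.edges S.gi (S.ix a) (S.ix b)) = 1 := by
        have hw1 := base_one A w hw
        rcases he with he | he <;> rw [eq_of_wordEq he]
        · exact hw1
        · rw [hrev w ?_, hw1, inv_one]
          have hb : (Cfsg.Agent.CosetData.HeH.base.all fun u => u.all fun x => Nat.blt x 7) = true := by
            decide +kernel
          intro x hx
          exact Nat.blt_eq ▸ List.all_eq_true.1 (List.all_eq_true.1 hb w hw) x hx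
      rw [pairWord, S.gi_ix, S.gi_ix, wprod_rep, wprod_cons, wprod_cons, wprod_nil, mul_one] at h2
      exact h2
    · have hf : ∀ (w : List ℕ), (∀ x ∈ w, x < 7) →
          wprod (fun x => f (Cfsg.Agent.CosetData.HeH.gi x)) w = wprod (gval A) w := fun w hw => by
        simp only [wprod]
        exact congrArg List.prod (List.map_congr_left fun x hx => hgi x (hw x hx))
      have hi : ∀ a, (f a)⁻¹ = f a := fun a => inv_eq_of_mul_eq_one_right (hinv a)
      have key : List.Forall₂ (fun r w => FreeGroup.lift f r = wprod (fun x => f (Cfsg.Agent.CosetData.HeH.gi x)) w)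
          Cfsg.Spor.He.extra Cfsg.Agent.CosetData.HeH.extraW := by
        simp only [Cfsg.Spor.He.extra, Cfsg.Agent.CosetData.HeH.extraW]
        repeat' constructor
        all_goals
          simp [wprod_cons, wprod_rep, wprod_nil, Cfsg.Agent.CosetData.HeH.gi, hi, map_mul, map_pow, map_inv,
            mul_inv_rev, ← inv_pow, mul_assoc]
      obtain ⟨t, ht, rfl⟩ := List.getElem_of_mem hr
      have ht' : t < Cfsg.Agent.CosetData.HeH.extraW.length := key.length_eq ▸ ht
      have h1 := List.Forall₂.get key ht ht'
      simp only [List.get_eq_getElem] at h1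
      have h := S.extras
      simp only [extraOK, List.all_eq_true, List.any_eq_true] at h
      obtain ⟨w, hw, he⟩ := h _ (List.getElem_mem ht')
      have hb : (Cfsg.Agent.CosetData.HeH.extraW.all fun u => u.all fun x => Nat.blt x 7) = true := by
        decide +kernel
      rw [h1, hf _ fun x hx => Nat.blt_eq ▸ List.all_eq_true.1 (List.all_eq_true.1 hb _ (List.getElem_mem ht')) x hx,
        eq_of_wordEq he]
      exact base_one A w hw
  exact ⟨PresentedGroup.toGroup hrels, fun a => PresentedGroup.toGroup.of hrels⟩

end Cfsg.Agent.TransvUniq.He
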