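import Cfsg.Agent.Lib.TransvUniq.He.Words
import Cfsg.Agent.Lib.RigidGraph.He.Invol.Iso
import Cfsg.Agent.Lib.RigidGraph.He.Presented
import Mathlib.GroupTheory.Sylow

/-!
Facts of the group on 2058 points used in the Held branch: two commuting involutions of the other class with
their elements of order five and seven, and no commuting elements of orders five and seven.
-/

set_option autoImplicit false
set_option maxRecDepth 100000
set_option linter.style.haveILetI false

namespace Cfsg.Agent.TransvUniq.He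

open scoped Pointwise
open Cfsg.Agent.RigidGraph Cfsg.Agent.RigidGraph.He Cfsg.Agent.RigidGraph.He.Mult Cfsg.Agent.RigidGraph.He.Invol

/-- the generators of a Sylow subgroup for five -/
def wP : List ℕ := [5, 5]

/-- its second generator -/
def wQ : List ℕ := [5, 3, 5, 3]

/-- a word in the Sylow subgroup -/
def wPQ (i k : ℕ) : List ℕ := (List.replicate i wP).flatten ++ (List.replicate k wQ).flatten

/-- two words with equal values -/
def eqB (a b : List ℕ) : Bool := okWord a && okWord b && keyEq a b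

/-- two words with unequal values -/
def neB (a b : List ℕ) : Bool := okWord a && okWord b && !keyEq a b

theorem of_eqB {a b : List ℕ} (h : eqB a b = true) : wordVal a = wordVal b := by
  simp only [eqB, Bool.and_eq_true] at h
  exact eq_of_key (okWord_mem h.1.1) (okWord_mem h.1.2) (beq_iff_eq.1 h.2)

theorem of_neB {a b : List ℕ} (h : neB a b = true) : wordVal a ≠ wordVal b := by
  simp only [neB, Bool.and_eq_true, Bool.not_eq_true', keyEq, beq_eq_false_iff_ne] at h
  exact fun e => h.2 (key_of_eq (okWord_mem h.1.1) (okWord_mem h.1.2) e)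

theorem wordVal_nil : wordVal [] = 1 := rfl

theorem wordVal_flatten (w : List ℕ) (n : ℕ) : wordVal (List.replicate n w).flatten = wordVal w ^ n := by
  induction n with
  | zero => rfl
  | succ n ih => rw [List.replicate_succ, List.flatten_cons, wordVal_append, ih, pow_succ']

/-- the word equations -/
def factsB : Bool :=
  eqB (wU ++ wU) [] && eqB (wJ ++ wJ) [] && neB wU [] && neB wJ [] && neB wJ wU &&
  eqB (wU ++ wS) (wS ++ wU) && eqB (wJ ++ wS) (wS ++ wJ) && eqB (wU ++ wJ) (wJ ++ wU) &&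
  eqB (List.replicate 5 w5).flatten [] && neB w5 [] && eqB (w5 ++ wU) (wU ++ w5) && eqB (w5 ++ wJ) (wJ ++ w5) &&
  eqB (List.replicate 7 w7).flatten [] && neB w7 [] && eqB (w7 ++ wU) (wU ++ w7) && eqB (w7 ++ wJ) (wJ ++ w7) &&
  eqB (List.replicate 5 wB5).flatten [] && neB wB5 [] && eqB (wB5 ++ (wS ++ wU)) (wS ++ wU ++ wB5) &&
  eqB (cJ ++ wS) (wS ++ wJ ++ cJ) && eqB (cJU ++ wS) (wS ++ (wJ ++ wU) ++ cJU) &&
  eqB (cUJ ++ wU) (wJ ++ cUJ)

theorem facts_ok : factsB = true := by decide +kernel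

/-- the other involution -/
noncomputable def uH : ↥heGroup := wordVal wU

/-- its partner -/
noncomputable def jH : ↥heGroup := wordVal wJ

theorem elements :
    (uH * uH = 1 ∧ jH * jH = 1 ∧ uH ≠ 1 ∧ jH ≠ 1 ∧ jH ≠ uH) ∧
    (Commute uH sH ∧ Commute jH sH ∧ Commute uH jH) ∧
    (∃ a : ↥heGroup, a ≠ 1 ∧ a ^ 5 = 1 ∧ Commute a uH ∧ Commute a jH) ∧
    (∃ a : ↥heGroup, a ≠ 1 ∧ a ^ 7 = 1 ∧ Commute a uH ∧ Commute a jH) ∧
    (∃ a : ↥heGroup, a ≠ 1 ∧ a ^ 5 = 1 ∧ Commute a (sH * uH)) ∧
    (∃ c : ↥heGroup, c * sH * c⁻¹ = sH * jH) ∧ (∃ c : ↥heGroup, c * sH * c⁻¹ = sH * (jH * uH)) ∧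
    (∃ c : ↥heGroup, c * uH * c⁻¹ = jH) := by
  have h := facts_ok
  simp only [factsB, Bool.and_eq_true] at h
  obtain ⟨⟨⟨⟨⟨⟨⟨⟨⟨⟨⟨⟨⟨⟨⟨⟨⟨⟨⟨⟨⟨h1, h2⟩, h3⟩, h4⟩, h5⟩, h6⟩, h7⟩, h8⟩, h9⟩, h10⟩, h11⟩, h12⟩, h13⟩, h14⟩, h15⟩,
    h16⟩, h17⟩, h18⟩, h19⟩, h20⟩, h21⟩, h22⟩ := h
  have e : ∀ {a b : List ℕ}, eqB a b = true → wordVal a = wordVal b := of_eqB
  have w : ∀ a b : List ℕ, wordVal (a ++ b) = wordVal a * wordVal b := wordVal_append
  have e1 : ∀ {a : List ℕ}, eqB a [] = true → wordVal a = 1 := fun h => (e h).trans wordVal_nil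
  have n1 : ∀ {a : List ℕ}, neB a [] = true → wordVal a ≠ 1 := fun h => (wordVal_nil ▸ of_neB h : _)
  simp only [uH, jH, sH, Commute, SemiconjBy, mul_inv_eq_iff_eq_mul, ← w]
  refine ⟨⟨e1 h1, e1 h2, n1 h3, n1 h4, of_neB h5⟩, ⟨e h6, e h7, e h8⟩,
    ⟨_, n1 h10, by rw [← wordVal_flatten]; exact e1 h9, (w _ _).symm.trans ((e h11).trans (w _ _)), (w _ _).symm.trans ((e h12).trans (w _ _))⟩,
    ⟨_, n1 h14, by rw [← wordVal_flatten]; exact e1 h13, (w _ _).symm.trans ((e h15).trans (w _ _)), (w _ _).symm.trans ((e h16).trans (w _ _))⟩,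
    ⟨wordVal wB5, n1 h18, by rw [← wordVal_flatten]; exact e1 h17, ?_⟩,
    ⟨wordVal cJ, ?_⟩, ⟨wordVal cJU, ?_⟩, ⟨wordVal cUJ, ?_⟩⟩
  all_goals simp only [← w]
  exacts [e h19, e h20, e h21, e h22]

/-- the images of a fifth generator as a permutation of the points -/
noncomputable def genE (i : ℕ) : ℕ := slot relabel.2 (Cfsg.Agent.CosetCert.tact Cfsg.Agent.CosetData.HeH.P [4] (slot relabel.1 i))

/-- a letter, the eighth being the fifth generator -/
noncomputable def letX (i : ℕ) : ↥heGroup :=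
  bif Nat.beq i 8 then presentedEquiv (PresentedGroup.of Cfsg.Spor.He.Gen.e) else gen i

/-- the action of a word in the nine letters -/
noncomputable def evX (w : List ℕ) (x : ℕ) : ℕ :=
  w.foldr (fun i y => bif Nat.beq i 8 then genE y else slot (lets.getD i 0) y) x

theorem letX_val {i : ℕ} (hi : i < 9) (q : Fin 2058) :
    (((letX i : ↥heGroup) : Equiv.Perm (Fin 2058)) q : ℕ) = evX [i] q := by
  have hrel := relabel_ok
  simp only [relabelOK, Bool.and_eq_true] at hrel
  rcases Nat.lt_succ_iff_lt_or_eq.1 hi with h | rfl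
  · have h' := act_word [i] (by simpa using h) q
    have hb : Nat.beq i 8 = false := Bool.eq_false_iff.2 fun e => by rw [Nat.beq_eq] at e; omega
    simpa [letX, evX, wordVal, evW, hb] using h'
  · have h4 : ((letX 8 : ↥heGroup) : Equiv.Perm (Fin 2058)) =
        toPerm (Cfsg.Agent.CosetCert.wprod pgen [4]) := by
      rw [Cfsg.Agent.CosetCert.wprod_cons, Cfsg.Agent.CosetCert.wprod_nil, mul_one]; rfl
    rw [h4, toPerm_val hrel.1.1.1 [4] (by decide)]
    rfl

theorem act_X : ∀ w : List ℕ, (∀ i ∈ w, i < 9) → ∀ q : Fin 2058,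
    ((((w.map letX).prod : ↥heGroup) : Equiv.Perm (Fin 2058)) q : ℕ) = evX w q := by
  intro w
  induction w with
  | nil => intro _ q; simp [evX]
  | cons i w ih =>
    intro hw q
    rw [List.map_cons, List.prod_cons, Subgroup.coe_mul, Equiv.Perm.mul_apply, letX_val (hw i List.mem_cons_self),
      ih (fun j hj => hw j (List.mem_cons_of_mem _ hj)) q]
    rfl

/-- the equation of the conjugation -/
noncomputable def genEB : Bool :=
  cE.all (fun i => Nat.blt i 9) && (base.map (evX (cE ++ wS)) == base.map (evX (8 :: cE)))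

theorem genE_ok : genEB = true := by decide +kernel

/-- the fifth generator is conjugate to the involution -/
theorem exists_gen_conj : ∃ c : ↥heGroup,
    c * sH * c⁻¹ = presentedEquiv (PresentedGroup.of Cfsg.Spor.He.Gen.e) := by
  refine ⟨(cE.map letX).prod, mul_inv_eq_iff_eq_mul.2 ?_⟩
  have h := genE_ok
  simp only [genEB, Bool.and_eq_true, List.all_eq_true, Nat.blt_eq, beq_iff_eq] at h
  obtain ⟨hw, he⟩ := h
  have hS : wordVal wS = (wS.map letX).prod := by
    refine congrArg List.prod (List.map_congr_left fun i hi => ?_)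
    have := words_spec.2.2.1 i hi
    have hb : Nat.beq i 8 = false := Bool.eq_false_iff.2 fun e => by rw [Nat.beq_eq] at e; omega
    rw [letX, hb]; rfl
  have h8 : presentedEquiv (PresentedGroup.of Cfsg.Spor.He.Gen.e) = letX 8 := rfl
  rw [sH, hS, h8, ← List.prod_append, ← List.map_append, ← List.prod_cons, ← List.map_cons]
  refine keyG_inj (List.map_congr_left fun b hb => ?_)
  simp only [dif_pos (base_lt hb)]
  rw [act_X _ (fun i hi => (List.mem_append.1 hi).elim (hw i) fun h => (words_spec.2.2.1 i h).trans (by norm_num)),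
    act_X _ (fun i hi => (List.mem_cons.1 hi).elim (fun e => by omega) (hw i))]
  exact List.map_inj_left.1 he b hb

/-- the points fixed by an element of the Sylow subgroup for five -/
noncomputable def fixB (i k : ℕ) : Bool :=
  (Nat.beq i 0 && Nat.beq k 0) || (neB (wPQ i k) [] && Nat.beq (cntB (fun q => Nat.beq (evW (wPQ i k) q) q) 2058) 8)

/-- the Sylow subgroup for five -/
noncomputable def sylB : Bool :=
  eqB (wP ++ wQ) (wQ ++ wP) && eqB (List.replicate 5 wP).flatten [] && eqB (List.replicate 5 wQ).flatten [] &&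
    (List.range 25).all fun n => fixB (n / 5) (n % 5)

theorem syl_ok : sylB = true := by decide +kernel

theorem val_wPQ (i k : ℕ) : wordVal (wPQ i k) = wordVal wP ^ i * wordVal wQ ^ k := by
  rw [wPQ, wordVal_append, wordVal_flatten, wordVal_flatten]

theorem smul_val (g : ↥heGroup) (q : Fin 2058) : g • q = (g : Equiv.Perm (Fin 2058)) q := rfl

/-- elements of order five fix eight points -/
theorem fix_five {a : ↥heGroup} (ha : a ^ 5 = 1) (ha1 : a ≠ 1) : Nat.card {q : Fin 2058 // a • q = q} = 8 := by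
  classical
  haveI := Fact.mk (show Nat.Prime 5 by norm_num)
  have h := syl_ok
  simp only [sylB, Bool.and_eq_true, List.all_eq_true, List.mem_range] at h
  obtain ⟨⟨⟨hc, hP5⟩, hQ5⟩, hfix⟩ := h
  set P := wordVal wP with hP
  set Q := wordVal wQ with hQ
  have hPQ : Commute P Q := by
    have := of_eqB hc; rwa [wordVal_append, wordVal_append] at this
  have hp : P ^ 5 = 1 := by rw [hP, ← wordVal_flatten]; exact of_eqB hP5
  have hq : Q ^ 5 = 1 := by rw [hQ, ← wordVal_flatten]; exact of_eqB hQ5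
  have hmod : ∀ n m : ℕ, P ^ n * Q ^ m = P ^ (n % 5) * Q ^ (m % 5) := fun n m => by
    rw [← pow_eq_pow_mod n hp, ← pow_eq_pow_mod m hq]
  let S : Subgroup ↥heGroup :=
    { carrier := Set.range fun x : Fin 5 × Fin 5 => P ^ (x.1 : ℕ) * Q ^ (x.2 : ℕ)
      one_mem' := ⟨(0, 0), by simp⟩
      mul_mem' := by
        rintro _ _ ⟨x, rfl⟩ ⟨y, rfl⟩
        refine ⟨(x.1 + y.1, x.2 + y.2), ?_⟩
        simp only [Fin.val_add, ← hmod, pow_add]
        exact Commute.mul_mul_mul_comm (hPQ.pow_pow _ _) _ _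
      inv_mem' := by
        rintro _ ⟨x, rfl⟩
        refine ⟨(-x.1, -x.2), eq_inv_of_mul_eq_one_left ?_⟩
        have h0 : ∀ {A : ↥heGroup}, A ^ 5 = 1 → ∀ n : Fin 5, A ^ ((-n : Fin 5) : ℕ) * A ^ (n : ℕ) = 1 := by
          intro A hA n
          rw [← pow_add, pow_eq_pow_mod _ hA, ← Fin.val_add, neg_add_cancel]; rfl
        simp only
        rw [Commute.mul_mul_mul_comm (hPQ.pow_pow _ _).symm, h0 hp, h0 hq, mul_one] }
  have hmem : ∀ x ∈ S, x = 1 ∨ Nat.card {q : Fin 2058 // x • q = q} = 8 := by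
    rintro _ ⟨⟨i, k⟩, rfl⟩
    simp only
    have h' := hfix (5 * (i : ℕ) + k) (by omega)
    rw [show (5 * (i : ℕ) + k) / 5 = i by omega, show (5 * (i : ℕ) + k) % 5 = k by omega] at h'
    simp only [fixB, Bool.or_eq_true, Bool.and_eq_true, Nat.beq_eq] at h'
    rcases h' with ⟨h1, h2⟩ | ⟨h1, h2⟩
    · left; simp [h1, h2]
    · right
      simp only [neB, Bool.and_eq_true] at h1
      rw [← h2, cntB_eq_fin, Nat.card_eq_fintype_card, Fintype.card_subtype]
      refine congrArg Finset.card (Finset.ext fun q => ?_)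
      simp only [Finset.mem_filter, Finset.mem_univ, true_and, Nat.beq_eq, smul_val, Fin.ext_iff]
      rw [hP, hQ, ← val_wPQ, act_word _ (okWord_mem h1.1.1)]
  have hS : Nat.card S = 5 ^ 2 := by
    have hinj : Function.Injective fun x : Fin 5 × Fin 5 => P ^ (x.1 : ℕ) * Q ^ (x.2 : ℕ) := by
      have key : ∀ z : Fin 5 × Fin 5, P ^ (z.1 : ℕ) * Q ^ (z.2 : ℕ) = 1 → z = 0 := by
        rintro ⟨i, k⟩ hz
        have h' := hfix (5 * (i : ℕ) + k) (by omega)
        rw [show (5 * (i : ℕ) + k) / 5 = i by omega, show (5 * (i : ℕ) + k) % 5 = k by omega] at h'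
        simp only [fixB, Bool.or_eq_true, Bool.and_eq_true, Nat.beq_eq] at h'
        rcases h' with ⟨h1, h2⟩ | ⟨h1, -⟩
        · exact Prod.ext (Fin.ext h1) (Fin.ext h2)
        · exact absurd (by rw [val_wPQ]; exact hz) (of_neB h1)
      intro x y hxy
      have := key (x.1 - y.1, x.2 - y.2) ?_
      · exact Prod.ext (sub_eq_zero.1 (Prod.ext_iff.1 this).1) (sub_eq_zero.1 (Prod.ext_iff.1 this).2)
      · have e1 : P ^ ((x.1 - y.1 : Fin 5) : ℕ) * P ^ (y.1 : ℕ) = P ^ (x.1 : ℕ) := by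
          rw [← pow_add, pow_eq_pow_mod _ hp, ← Fin.val_add, sub_add_cancel]
        have e2 : Q ^ ((x.2 - y.2 : Fin 5) : ℕ) * Q ^ (y.2 : ℕ) = Q ^ (x.2 : ℕ) := by
          rw [← pow_add, pow_eq_pow_mod _ hq, ← Fin.val_add, sub_add_cancel]
        simp only at hxy ⊢
        rw [← e1, ← e2, ← Commute.mul_mul_mul_comm (hPQ.pow_pow _ _).symm] at hxy
        exact mul_eq_right.1 hxy
    rw [show Nat.card S = Nat.card (Fin 5 × Fin 5) from (Nat.card_congr (Equiv.ofInjective _ hinj)).symm,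
      Nat.card_prod, Nat.card_fin]
    norm_num
  have hfac : (Nat.card ↥heGroup).factorization 5 = 2 := by
    rw [card_heGroup, show (4030387200 : ℕ) = 5 ^ 2 * 161215488 by norm_num,
      Nat.factorization_mul (by norm_num) (by norm_num), Finsupp.add_apply, Nat.Prime.factorization_pow (by norm_num),
      Finsupp.single_eq_same, Nat.factorization_eq_zero_of_not_dvd (by norm_num)]
  let T : Sylow 5 ↥heGroup := Sylow.ofCard S (by rw [hS, hfac])
  have hpg : IsPGroup 5 (Subgroup.zpowers a) := by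
    refine IsPGroup.of_card (n := 1) ?_
    rw [Nat.card_zpowers, orderOf_eq_prime ha ha1, pow_one]
  obtain ⟨T', hT'⟩ := hpg.exists_le_sylow
  obtain ⟨g, hg⟩ := MulAction.exists_smul_eq (↥heGroup) T T'
  have haT : a ∈ (g • T : Sylow 5 ↥heGroup) := hg ▸ hT' (Subgroup.mem_zpowers a)
  have haS : g⁻¹ * a * g ∈ S := by
    change a ∈ MulAut.conj g • S at haT
    rw [Subgroup.mem_pointwise_smul_iff_inv_smul_mem] at haT
    simpa [MulAut.smul_def, MulAut.conj_inv_apply] using haT
  have hcard := (hmem _ haS).resolve_left fun e => ha1 (by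
    have := congrArg (fun x => g * x * g⁻¹) e
    simpa [mul_assoc] using this)
  rw [← hcard]
  refine Nat.card_congr ((MulAction.toPerm g⁻¹).subtypeEquiv fun q => ?_)
  simp only [MulAction.toPerm_apply, mul_smul, smul_inv_smul, (MulAction.injective g⁻¹).eq_iff]

/-- no elements of orders five and seven commute -/
theorem no35_he {a b : ↥heGroup} (ha1 : a ≠ 1) (hb1 : b ≠ 1) (ha : a ^ 5 = 1) (hb : b ^ 7 = 1)
    (hab : Commute a b) : False := by
  classical
  haveI := Fact.mk (show Nat.Prime 7 by norm_num)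
  let Z : Subgroup ↥heGroup := Subgroup.zpowers b
  letI : MulAction Z {q : Fin 2058 // a • q = q} :=
    { smul := fun h q => ⟨(h : ↥heGroup) • q.1, by
        obtain ⟨n, hn⟩ := Subgroup.mem_zpowers_iff.1 h.2
        rw [← mul_smul, ← hn, (hab.zpow_right n).eq, mul_smul, q.2]⟩
      one_smul := fun q => Subtype.ext (one_smul ↥heGroup q.1)
      mul_smul := fun h h' q => Subtype.ext (mul_smul (h : ↥heGroup) (h' : ↥heGroup) q.1) }
  have hZ : IsPGroup 7 Z := IsPGroup.of_card (n := 1) (by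
    rw [Nat.card_zpowers, orderOf_eq_prime hb hb1, pow_one])
  obtain ⟨q, hq⟩ := hZ.nonempty_fixed_point_of_prime_not_dvd_card {q : Fin 2058 // a • q = q}
    (by rw [fix_five ha ha1]; norm_num)
  have hbq : b • q.1 = q.1 := congrArg Subtype.val (hq ⟨b, Subgroup.mem_zpowers b⟩)
  obtain ⟨g, hg⟩ := MulAction.exists_smul_eq ↥heGroup q.1 (0 : Fin 2058)
  have hstab : g * b * g⁻¹ ∈ MulAction.stabilizer ↥heGroup (0 : Fin 2058) := by
    rw [MulAction.mem_stabilizer_iff, ← hg, ← mul_smul, inv_mul_cancel_right, mul_smul, hbq]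
  have hd := Subgroup.orderOf_dvd_natCard _ hstab
  rw [card_stab_heGroup, ← MulAut.conj_apply, MulEquiv.orderOf_eq, orderOf_eq_prime hb hb1] at hd
  norm_num at hd

end Cfsg.Agent.TransvUniq.He
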