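import Cfsg.Agent.Lib.TransvUniq.He.Embed
import Cfsg.Agent.Lib.TransvUniq.He.Facts
import Cfsg.Agent.Lib.TransvUniq.He.Criterion
import Cfsg.Agent.Lib.TransvUniq.He.Chk
import Cfsg.Agent.Lib.TransvUniq.L52.Parab
import Cfsg.Agent.Lib.HeUniq.Assembly

/-!
The Held branch: a finite group whose fusion pattern is that of the Held group is the presented Held group.
-/

set_option autoImplicit false
set_option maxRecDepth 100000
set_option linter.style.haveILetI false
set_option linter.unusedSectionVars false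

namespace Cfsg.Agent.TransvUniq.He

open Subgroup
open Cfsg.Agent.HeUniq Cfsg.Agent.HeUniq.Model Cfsg.Agent.HeUniq.Fus
open Cfsg.Agent.RigidGraph.He (heGroup card_heGroup presentedEquiv isHe_heGroup)
open Cfsg.Agent.RigidGraph.He.Invol (sH card_centralizer sH_sq sH_ne)

variable {G : Type*} [Group G]

theorem isConj_iff_zt {t y : G} : IsConj t y ↔ ZT t y := isConj_iff

/-- A subgroup isomorphic to the group on 2058 points contains a frame of the full pattern. -/
theorem frame_in {t : G} (F : Frame G t) {H : Subgroup G} [Finite H] (hH : Nonempty (↥heGroup ≃* H))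
    (hc : ∀ g : G, g * t = t * g → g ∈ H) :
    ∃ F' : Frame H ⟨t, hc t rfl⟩, mask F' = 123 ∧ ∀ a, Model.InC a → (F'.f a : G) = F.f a := by
  classical
  let f' : ℕ → H := fun a => if h : Model.InC a then ⟨F.f a, hc _ (F.cent h)⟩ else 1
  have fv : ∀ {a}, Model.InC a → (f' a : G) = F.f a := fun {a} ha => by simp only [f', dif_pos ha]
  let F' : Frame H ⟨t, hc t rfl⟩ :=
    { f := f'
      mul := fun ha hb => Subtype.ext (by rw [Subgroup.coe_mul, fv ha, fv hb, fv (ha.mul hb), F.mul ha hb])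
      inj := fun ha hb h => F.inj ha hb (by rw [← fv ha, ← fv hb, h])
      cent := fun ha => Subtype.ext (by rw [Subgroup.coe_mul, Subgroup.coe_mul, fv ha, F.cent ha])
      surj := fun g hg => by
        obtain ⟨a, ha, he⟩ := F.surj g (congrArg Subtype.val hg)
        exact ⟨a, ha, Subtype.ext ((fv ha).trans he)⟩
      fz := Subtype.ext ((fv inC_z).trans F.fz) }
  obtain ⟨e⟩ := hH
  haveI : IsSimpleGroup ↥heGroup := isHe_heGroup.1
  haveI : IsSimpleGroup H := e.symm.isSimpleGroup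
  have ht : orderOf (⟨t, hc t rfl⟩ : H) = 2 :=
    orderOf_eq_prime (Subtype.ext (by rw [Subgroup.coe_pow, pow_two]; exact sq_t F))
      fun h => t_ne_one F (congrArg Subtype.val h)
  exact ⟨F', (Assembly.mask_eq F' ht (by rw [← Nat.card_congr e.toEquiv, card_heGroup])).1, fun a ha => fv ha⟩

variable [Finite G]

/-- An element of order five in the centraliser keeps an element off the class of the involution. -/
theorem not_zt {t a y : G} (F : Frame G t) (ha : a ^ 5 = 1) (ha1 : a ≠ 1) (hay : Commute a y) : ¬ ZT t y := by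
  rintro ⟨g, rfl⟩
  have hcomm : g⁻¹ * a * g ∈ centralizer ({t} : Set G) := by
    refine mem_centralizer_singleton_iff.2 ?_
    calc g⁻¹ * a * g * t = g⁻¹ * (a * (g * t * g⁻¹)) * g := by group
      _ = g⁻¹ * (g * t * g⁻¹ * a) * g := by rw [hay.eq]
      _ = t * (g⁻¹ * a * g) := by group
  have h5 : orderOf (g⁻¹ * a * g) = 5 := by
    haveI := Fact.mk (show Nat.Prime 5 by norm_num)
    have := MulEquiv.orderOf_eq (MulAut.conj g⁻¹) a
    rw [MulAut.conj_apply, inv_inv] at this
    rw [this, orderOf_eq_prime ha ha1]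
  have := Subgroup.orderOf_dvd_natCard _ hcomm
  rw [h5, L52.card_cent F] at this
  norm_num at this

/-- An involution of an odd index situation is conjugate into the centraliser. -/
theorem conj_into_cent {t : G} {H : Subgroup G} (htH : t ∈ H)
    (hodd : ¬ 2 ∣ (centralizer ({⟨t, htH⟩} : Set H)).index) {y : G} (hy : y ∈ H) (hyy : y * y = 1) :
    ∃ h ∈ H, Commute (h⁻¹ * y * h) t := by
  classical
  haveI := Fact.mk Nat.prime_two
  let C := centralizer ({⟨t, htH⟩} : Set H)
  have hp : IsPGroup 2 (zpowers (⟨y, hy⟩ : H)) := by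
    refine fun g => ⟨1, ?_⟩
    obtain ⟨n, hn⟩ := mem_zpowers_iff.1 g.2
    refine Subtype.ext ?_
    rw [Subgroup.coe_pow, ← hn, pow_one, ← zpow_natCast, ← zpow_mul, mul_comm, zpow_mul, zpow_natCast, pow_two,
      Subgroup.coe_one, show (⟨y, hy⟩ : H) * ⟨y, hy⟩ = 1 from Subtype.ext hyy, one_zpow]
  obtain ⟨q, hq⟩ := hp.nonempty_fixed_point_of_prime_not_dvd_card (H ⧸ C) hodd
  induction q using QuotientGroup.induction_on with
  | H h =>
    have h' : (QuotientGroup.mk ((⟨y, hy⟩ : H) * h) : H ⧸ C) = QuotientGroup.mk h :=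
      hq ⟨_, mem_zpowers _⟩
    have hm := mem_centralizer_singleton_iff.1 (QuotientGroup.eq.1 h')
    refine ⟨h, h.2, ?_⟩
    have hm' := congrArg Subtype.val hm
    simp only [mul_inv_rev, Subgroup.coe_mul, Subgroup.coe_inv] at hm'
    rwa [inv_eq_of_mul_eq_one_right hyy] at hm'

/-- the central involution off itself is in the class of the pattern -/
theorem zt_iff {t : G} (F : Frame G t) (hm : mask F = 123) {a : ℕ} (ha : Model.InC a) :
    ZT t (F.f a) ↔ zB a = true := by
  rw [zB, Bool.and_eq_true, Nat.blt_eq]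
  constructor
  · intro h
    have hsq := ZT.sq (sq_t F) h
    have hc : cls a < 8 := cls_lt ha (F.inj (ha.mul ha) inC_one (by rw [F.mul ha ha, hsq, F.one])) fun e => by
      obtain ⟨g, hg⟩ := h
      rw [e, F.one] at hg
      exact t_ne_one F (conj_eq_one_iff.1 hg)
    exact ⟨hc, hm ▸ (conj_iff F hc).1 (isConj_iff_zt.2 h)⟩
  · rintro ⟨hc, hb⟩
    exact isConj_iff_zt.1 ((conj_iff F hc).2 (hm ▸ hb))

theorem involution_code {t y : G} (F : Frame G t) (hyy : y * y = 1) (hy1 : y ≠ 1) (hyt : Commute y t) :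
    ∃ i < 21504, F.f (cd i) = y ∧ cls (cd i) < 8 := by
  obtain ⟨a, ⟨i, hi, rfl⟩, rfl⟩ := F.surj y hyt.eq
  refine ⟨i, hi, rfl, cls_lt (inC_cd hi) ?_ fun e => hy1 (by rw [e, F.one])⟩
  exact F.inj ((inC_cd hi).mul (inC_cd hi)) inC_one (by rw [F.mul (inC_cd hi) (inC_cd hi), hyy, F.one])

set_option maxHeartbeats 1000000 in
/-- The Held branch. -/
theorem isoHe_of_mask {t : G} (F : Frame G t) (hm : mask F = 123) : Cfsg.Spor.IsoHe G := by
  classical
  have hm' : mask F.twist = 123 := by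
    refine Nat.eq_of_testBit_eq fun k => ?_
    rcases Nat.lt_or_ge k 8 with hk | hk
    · rw [testBit_twist F hk, hm]
      revert k; decide
    · rw [Nat.testBit_lt_two_pow ((mask_lt F.twist).trans_le (Nat.pow_le_pow_right two_pos hk)),
        Nat.testBit_lt_two_pow ((show (123 : ℕ) < 256 by norm_num).trans_le (Nat.pow_le_pow_right two_pos hk))]
  obtain ⟨S0⟩ := Local.exists_side F hm
  obtain ⟨S1⟩ := Local.exists_side F.twist hm'
  obtain ⟨⟨A, hA⟩⟩ := exists_amalgam S0 S1
  obtain ⟨φ, hφ⟩ := exists_presented_hom A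
  have he : φ (PresentedGroup.of Cfsg.Spor.He.Gen.e) = t := by
    have e0 : Rel.genW.getD 4 [] = [29376] := rfl
    rw [hφ, show Cfsg.Agent.CosetData.HeH.ix Cfsg.Spor.He.Gen.e = 4 from rfl, Rel.gval, e0, Rel.wv,
      List.map_singleton, List.prod_singleton, Rel.val_zero A (by decide),
      show Rel.code 29376 = zC by decide +kernel, hA, F.fz]
  haveI : IsSimpleGroup ↥heGroup := isHe_heGroup.1
  have hφi : Function.Injective φ := by
    haveI : IsSimpleGroup Cfsg.Spor.He := presentedEquiv.isSimpleGroup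
    rw [← MonoidHom.ker_eq_bot_iff]
    refine ((inferInstance : φ.ker.Normal).eq_bot_or_eq_top).resolve_right fun h => t_ne_one F ?_
    rw [← he]
    exact MonoidHom.mem_ker.1 (h ▸ Subgroup.mem_top _)
  obtain ⟨c, hc⟩ := exists_gen_conj
  let ψ₀ : ↥heGroup →* G := φ.comp (presentedEquiv.symm.toMonoidHom.comp (MulAut.conj c).toMonoidHom)
  have h0 : ψ₀ sH = t := by
    show φ (presentedEquiv.symm (c * sH * c⁻¹)) = t
    rw [hc, MulEquiv.symm_apply_apply, he]
  have hi0 : Function.Injective ψ₀ := hφi.comp (presentedEquiv.symm.injective.comp (MulAut.conj c).injective)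
  obtain ⟨⟨huu, hjj, hu1, hj1, hju⟩, ⟨hus, hjs, huj⟩, ⟨a5, a5ne, a5p, a5u, a5j⟩, ⟨a7, a7ne, a7p, a7u, a7j⟩,
    ⟨b5, b5ne, b5p, b5c⟩, ⟨cJ, hcJ⟩, ⟨cJU, hcJU⟩, ⟨cU, hcU⟩⟩ := elements
  have hn : ∀ {f : ↥heGroup →* G}, Function.Injective f → ∀ {a y : ↥heGroup}, a ^ 5 = 1 → a ≠ 1 → Commute a y →
      ¬ ZT t (f y) := fun {f} hf {a y} ha ha1 hay =>
    not_zt F (a := f a) (by rw [← map_pow, ha, map_one]) (fun e => ha1 (hf (e.trans (map_one f).symm)))
      (hay.map f)
  have hnu := hn hi0 a5p a5ne a5u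
  have hntu := hn hi0 b5p b5ne b5c
  rw [map_mul, h0] at hntu
  obtain ⟨iu, hiu, hu, hku⟩ := involution_code F (y := ψ₀ uH) (by rw [← map_mul, huu, map_one])
    (fun e => hu1 (hi0 (e.trans (map_one _).symm))) (by rw [← h0]; exact hus.map ψ₀)
  obtain ⟨g, hgt, hg⟩ := to_rep F hku
  rw [hu] at hg
  have hk7 : cls (cd iu) = 7 := by
    rcases bits.2.2.2 _ hku (Bool.eq_false_iff.2 fun hb => hnu (by
      rw [← hu]; exact isConj_iff_zt.1 ((conj_iff F hku).2 (hm.symm ▸ hb)))) with h | h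
    swap
    · exact h
    exfalso
    rw [h] at hg
    have hz : zB (mC zC (repC 2)) = true := by
      rw [zB, Nat.eq_of_beq_eq_true rep_rows.2]; decide
    have := ((zt_iff F hm (inC_z.mul (rep_cd (show 2 < 8 by norm_num)).1)).2 hz).conj g⁻¹
    rw [F.mul inC_z (rep_cd (show 2 < 8 by norm_num)).1, F.fz, ← hg, inv_inv] at this
    refine hntu ?_
    convert this using 1
    calc t * ψ₀ uH = g⁻¹ * (g * t) * ψ₀ uH := by group
      _ = g⁻¹ * (t * g) * ψ₀ uH := by rw [hgt]
      _ = _ := by group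
  rw [hk7] at hg
  let ψ : ↥heGroup →* G := (MulAut.conj g).toMonoidHom.comp ψ₀
  have hψi : Function.Injective ψ := (MulAut.conj g).injective.comp hi0
  have hψs : ψ sH = t := by
    show g * ψ₀ sH * g⁻¹ = t
    rw [h0, hgt, mul_inv_cancel_right]
  have hψu : ψ uH = F.f (repC 7) := hg
  let H : Subgroup G := ψ.range
  have hmem : ∀ x, ψ x ∈ H := fun x => ⟨x, rfl⟩
  have hHe : Nonempty (↥heGroup ≃* H) := ⟨MonoidHom.ofInjective hψi⟩
  have hcentH : ∀ x : G, x * t = t * x → x ∈ H := by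
    have hle : (centralizer ({sH} : Set ↥heGroup)).map ψ ≤ centralizer ({t} : Set G) := by
      rintro _ ⟨x, hx, rfl⟩
      refine mem_centralizer_singleton_iff.2 ?_
      rw [← hψs, ← map_mul, ← map_mul, mem_centralizer_singleton_iff.1 hx]
    have heq := eq_of_le_of_card_ge hle (le_of_eq (by
      rw [L52.card_cent F, ← Nat.card_congr (equivMapOfInjective _ ψ hψi).toEquiv, card_centralizer]))
    intro x hx
    have hx' : x ∈ centralizer ({t} : Set G) := mem_centralizer_singleton_iff.2 hx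
    rw [← heq] at hx'
    obtain ⟨w, -, rfl⟩ := hx'
    exact hmem w
  have htH : t ∈ H := hcentH t rfl
  obtain ⟨F', hmF', hfv⟩ := frame_in F hHe hcentH
  have hodd : ¬ 2 ∣ (centralizer ({(⟨t, htH⟩ : H)} : Set H)).index := by
    have h := (centralizer ({(⟨t, htH⟩ : H)} : Set H)).card_mul_index
    rw [L52.card_cent F', ← Nat.card_congr hHe.some.toEquiv, card_heGroup] at h
    omega
  -- the involutions inside
  have into : ∀ y ∈ H, y * y = 1 → y ≠ 1 →
      ∃ h ∈ H, ∃ i < 21504, F.f (cd i) = h⁻¹ * y * h ∧ cls (cd i) < 8 := by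
    intro y hy hyy hy1
    obtain ⟨h, hh, hcm⟩ := conj_into_cent htH hodd hy hyy
    have e2 : h⁻¹ * y * h * (h⁻¹ * y * h) = 1 := by
      rw [show h⁻¹ * y * h * (h⁻¹ * y * h) = h⁻¹ * (y * y) * h by group, hyy, mul_one, inv_mul_cancel]
    refine ⟨h, hh, involution_code F e2 (fun e => hy1 ?_) hcm⟩
    calc y = h * (h⁻¹ * y * h) * h⁻¹ := by group
      _ = 1 := by rw [e, mul_one, mul_inv_cancel]
  have ctrl : Ctrl H t := by
    refine ⟨sq_t F, hcentH, fun x hx => ?_⟩
    obtain ⟨h, hh, i, hi, he', hk⟩ := into _ hx (ZT.sq (sq_t F) ⟨x, rfl⟩)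
      (fun e => t_ne_one F (conj_eq_one_iff.1 e))
    have hz : ZT t (F.f (cd i)) := ⟨h⁻¹ * x, by rw [he']; group⟩
    have hb : (mask F').testBit (cls (cd i)) = true := by
      rw [hmF', ← hm]; exact (conj_iff F hk).1 (isConj_iff_zt.2 hz)
    obtain ⟨⟨k, hkH⟩, hk'⟩ := isConj_iff.1 ((conj_iff F' hk).2 hb)
    have hk'' := congrArg Subtype.val hk'
    simp only [Subgroup.coe_mul, Subgroup.coe_inv, hfv _ (inC_cd hi), he'] at hk''
    refine ⟨h * k, mul_mem hh hkH, ?_⟩
    calc h * k * t * (h * k)⁻¹ = h * (k * t * k⁻¹) * h⁻¹ := by group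
      _ = x * t * x⁻¹ := by rw [hk'']; group
  -- the configuration
  set u := ψ uH with hud
  set j := ψ jH with hjd
  have hnj : ¬ ZT t j := hn hψi a5p a5ne a5j
  have hzj : ZT t (t * j) := ⟨ψ cJ, by rw [← hψs, ← map_inv, ← map_mul, ← map_mul, hcJ, map_mul]⟩
  have hzju : ZT t (t * (j * u)) := ⟨ψ cJU, by
    rw [← hψs, ← map_inv, ← map_mul, ← map_mul, hcJU, map_mul, map_mul]⟩
  have hnju : ¬ ZT t (j * u) := by
    have := hn hψi a5p a5ne (a5j.mul_right a5u)
    rwa [map_mul] at this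
  have hnu' : ¬ ZT t u := hn hψi a5p a5ne a5u
  have hntu' : ¬ ZT t (t * u) := by
    have := hn hψi b5p b5ne b5c
    rwa [map_mul, hψs] at this
  obtain ⟨ij, hij, hfj, hkj⟩ := involution_code F (y := j) (by rw [hjd, ← map_mul, hjj, map_one])
    (fun e => hj1 (hψi (e.trans (map_one _).symm))) (by rw [← hψs]; exact hjs.map ψ)
  have hr7 := (rep_cd (show 7 < 8 by norm_num)).1
  have hfu : F.f (repC 7) = u := hψu.symm
  have hinH : ∀ l < 21504, (inH 7 l = true ↔ Commute (F.f (cd l)) u) := fun l hl => by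
    rw [inH_iff F (by norm_num) hl, hfu]; rfl
  have hboth : ∀ l < 21504, (both ij l = true ↔ Commute (F.f (cd l)) u ∧ Commute (F.f (cd l)) j) := fun l hl => by
    rw [both, Bool.and_eq_true, hinH l hl, Nat.beq_eq, ← hfj]
    refine and_congr_right fun _ => ⟨fun e => ?_, fun e => ?_⟩
    · have := congrArg F.f e
      rwa [F.mul (inC_cd hl) (inC_cd hij), F.mul (inC_cd hij) (inC_cd hl)] at this
    · exact F.inj ((inC_cd hl).mul (inC_cd hij)) ((inC_cd hij).mul (inC_cd hl))
        (by rw [F.mul (inC_cd hl) (inC_cd hij), F.mul (inC_cd hij) (inC_cd hl)]; exact e)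
  have hzi : ∀ {a : ℕ}, Model.InC a → (zB a = false ↔ ¬ ZT t (F.f a)) := fun {a} ha => by
    rw [zt_iff F hm ha, Bool.not_eq_true]
  have hjc := inC_cd hij
  have hjuC : Model.InC (mC (cd ij) (repC 7)) := hjc.mul hr7
  have fju : F.f (mC (cd ij) (repC 7)) = j * u := by rw [F.mul hjc hr7, hfj, hfu]
  have hne : ∀ {a b : ℕ}, F.f a ≠ F.f b → Nat.beq a b = false := fun {a b} h =>
    Bool.eq_false_iff.2 fun e => h (by rw [Nat.eq_of_beq_eq_true e])
  have heq : ∀ {a b : ℕ}, Nat.beq a b = true → F.f a = F.f b := fun {a b} h => by rw [Nat.eq_of_beq_eq_true h]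
  have hcode : allB (fun l => candB ij l && innerB ij l && sqB ij l) 21504 = true ∧ cnt (both ij) 21504 = 256 := by
    have hjok : jOK ij = true := by
      simp only [jOK, Bool.and_eq_true, Bool.not_eq_true', hinH _ hij, Nat.blt_eq, hzi hjc, hzi hjuC,
        ← zt_iff F hm (inC_z.mul hjc), ← zt_iff F hm (inC_z.mul hjuC), F.mul inC_z hjc, F.mul inC_z hjuC, F.fz,
        fju, hfj]
      exact ⟨⟨⟨⟨⟨⟨huj.symm.map ψ, hkj⟩, hne (by rw [hfj, hfu]; exact fun e => hju (hψi e))⟩, hnj⟩, hnju⟩, hzj⟩,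
        hzju⟩
    have h := allB_spec jchk_ok ij hij
    rw [jChk, hjok, Bool.not_true, Bool.false_or, Bool.and_eq_true, Nat.beq_eq] at h
    exact h
  have hall := fun l (hl : l < 21504) => allB_spec hcode.1 l hl
  simp only [Bool.and_eq_true] at hall
  have cfg : Cfg H t u j := by
    refine ⟨ctrl, by rw [hud, ← map_mul, huu, map_one], by rw [hjd, ← map_mul, hjj, map_one],
      fun e => hu1 (hψi (e.trans (map_one _).symm)), fun e => hj1 (hψi (e.trans (map_one _).symm)), huj.map ψ,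
      by rw [← hψs]; exact hus.symm.map ψ, by rw [← hψs]; exact hjs.symm.map ψ, hnu', hnj, hnju,
      fun e => hju (hψi e), hntu', hzj, hzju, ?_, ?_, ?_, ?_, ?_, ?_, ?_⟩
    · intro i hii hi1 hiu hit hiu' hnz hnzu
      obtain ⟨l, hl, rfl, hkl⟩ := involution_code F hii hi1 hit
      have hlu : Model.InC (mC (cd l) (repC 7)) := (inC_cd hl).mul hr7
      have h := (hall l hl).1.1
      rw [candB, show (inH 7 l && Nat.blt (cls (cd l)) 8 && !Nat.beq (cd l) (repC 7) && !zB (cd l) &&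
        !zB (mC (cd l) (repC 7))) = true by
          simp only [Bool.and_eq_true, Bool.not_eq_true', hinH _ hl, Nat.blt_eq, hzi (inC_cd hl), hzi hlu,
            F.mul (inC_cd hl) hr7, hfu]
          exact ⟨⟨⟨⟨hiu', hkl⟩, hne (by rw [hfu]; exact hiu)⟩, hnz⟩, hnzu⟩] at h
      simp only [Bool.not_true, Bool.false_or, Bool.or_eq_true, Bool.and_eq_true, Bool.not_eq_true',
        hzi (inC_z.mul (inC_cd hl)), hzi ((inC_z.mul (inC_cd hl)).mul hr7), F.mul (inC_z.mul (inC_cd hl)) hr7,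
        F.mul inC_z (inC_cd hl), F.fz, hfu] at h
      rcases h with (h | h) | h
      · exact Or.inl ((heq h).trans hfj)
      · exact Or.inr (Or.inl ((heq h).trans fju))
      · exact Or.inr (Or.inr h)
    · intro i hii hit hiu hij' hi1 hiu' hij'' hiju
      obtain ⟨l, hl, rfl, hkl⟩ := involution_code F hii hi1 hit
      have h := (hall l hl).1.2
      rw [innerB, show (both ij l && Nat.blt (cls (cd l)) 8) = true by
        rw [Bool.and_eq_true, hboth l hl, Nat.blt_eq]; exact ⟨⟨hiu, hij'⟩, hkl⟩] at h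
      simp only [Bool.not_true, Bool.false_or, Bool.or_eq_true, ← zt_iff F hm (inC_cd hl),
        ← zt_iff F hm ((inC_cd hl).mul hr7), ← zt_iff F hm ((inC_cd hl).mul hjc),
        ← zt_iff F hm ((inC_cd hl).mul hjuC), F.mul (inC_cd hl) hr7, F.mul (inC_cd hl) hjc,
        F.mul (inC_cd hl) hjuC, fju, hfu, hfj] at h
      rcases h with ((h | h) | h) | h
      · exact absurd ((heq h).trans hfu) hiu'
      · exact absurd ((heq h).trans hfj) hij''
      · exact absurd ((heq h).trans fju) hiju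
      · rcases h with ((h | h) | h) | h
        exacts [Or.inl h, Or.inr (Or.inl h), Or.inr (Or.inr (Or.inl h)), Or.inr (Or.inr (Or.inr h))]
    · intro x hxt hxu hxj hsq
      obtain ⟨a, ⟨l, hl, rfl⟩, rfl⟩ := F.surj x hxt.eq
      have h := (hall l hl).2
      rw [sqB, (hboth l hl).2 ⟨hxu, hxj⟩] at h
      simp only [Bool.not_true, Bool.false_or, Bool.not_eq_true', Bool.or_eq_false_iff] at h
      have key : ∀ {b : ℕ}, Model.InC b → F.f (cd l) * F.f (cd l) = F.f b →
          Nat.beq (mC (cd l) (cd l)) b = false → False := fun {b} hb he' hf => by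
        rw [← F.mul (inC_cd hl) (inC_cd hl)] at he'
        rw [F.inj ((inC_cd hl).mul (inC_cd hl)) hb he', Nat.beq_refl] at hf
        exact Bool.noConfusion hf
      rcases hsq with e | e | e
      · exact key hr7 (e.trans hfu.symm) h.1.1
      · exact key hjc (e.trans hfj.symm) h.1.2
      · exact key hjuC (e.trans fju.symm) h.2
    · have h := card_code F (fun x => x * u = u * x ∧ x * j = j * x) (both ij) (fun l hl => hboth l hl)
      rw [hcode.2] at h
      rw [← h]
      refine dvd_of_eq (Nat.card_congr (Equiv.subtypeEquivRight fun x => ?_))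
      simp only [mem_centralizer_iff, Set.mem_insert_iff, Set.mem_singleton_iff, forall_eq_or_imp, forall_eq]
      constructor
      · exact fun ⟨a, b, c⟩ => ⟨a.symm, b.symm, c.symm⟩
      · exact fun ⟨a, b, c⟩ => ⟨a.symm, b.symm, c.symm⟩
    · exact ⟨ψ a5, hmem _, fun e => a5ne (hψi (e.trans (map_one _).symm)), by rw [← map_pow, a5p, map_one],
        a5u.map ψ, a5j.map ψ⟩
    · exact ⟨ψ a7, hmem _, fun e => a7ne (hψi (e.trans (map_one _).symm)), by rw [← map_pow, a7p, map_one],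
        a7u.map ψ, a7j.map ψ⟩
    · rintro _ ⟨a, rfl⟩ _ ⟨b, rfl⟩ ha hb ha5 hb7 hab
      exact no35_he (a := a) (b := b) (fun e => ha (by rw [e, map_one])) (fun e => hb (by rw [e, map_one]))
        (hψi (by rw [map_pow, ha5, map_one])) (hψi (by rw [map_pow, hb7, map_one]))
        (hψi (by rw [map_mul, map_mul]; exact hab.eq))
  -- every other involution inside is conjugate to the second one
  have hkj2 : cls (cd ij) = 2 := by
    refine (bits.2.2.2 _ hkj (Bool.eq_false_iff.2 fun hb => hnj (by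
      rw [← hfj]; exact isConj_iff_zt.1 ((conj_iff F hkj).2 (hm.symm ▸ hb))))).resolve_right fun h7 => ?_
    obtain ⟨w, hwt, hw⟩ := to_rep F hkj
    rw [h7, hfj, hfu] at hw
    refine hntu' ?_
    have hwj : w * (t * j) * w⁻¹ = t * u := by rw [← mul_assoc w t j, hwt, mul_assoc t, mul_assoc t, hw]
    exact hwj ▸ hzj.conj w
  have hC : ∀ y ∈ H, y * y = 1 → y ≠ 1 → ¬ ZT t y → ∀ x : G, x * y = y * x → x ∈ H := by
    intro y hy hyy hy1 hyn x hxy
    obtain ⟨h, hh, i, hi, he', hk⟩ := into y hy hyy hy1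
    obtain ⟨w, hwt, hw⟩ := to_rep F hk
    obtain ⟨v, hvt, hv⟩ := to_rep F hkj
    rw [hkj2, hfj] at hv
    have hconj : ∃ m ∈ H, m * u * m⁻¹ = y := by
      rcases bits.2.2.2 _ hk (Bool.eq_false_iff.2 fun hb => hyn (by
        obtain ⟨k, hk'⟩ := isConj_iff_zt.1 ((conj_iff F hk).2 (hm.symm ▸ hb))
        exact ⟨h * k, by rw [show h * k * t * (h * k)⁻¹ = h * (k * t * k⁻¹) * h⁻¹ by group, hk', he']; group⟩))
        with e | e <;> rw [e, he'] at hw
      · rw [← hv] at hw
        refine ⟨h * w⁻¹ * v * ψ cU, mul_mem (mul_mem (mul_mem hh (inv_mem (hcentH _ hwt))) (hcentH _ hvt)) (hmem _), ?_⟩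
        have hcu : ψ cU * u * (ψ cU)⁻¹ = j := by rw [hud, hjd, ← map_inv, ← map_mul, ← map_mul, hcU]
        calc h * w⁻¹ * v * ψ cU * u * (h * w⁻¹ * v * ψ cU)⁻¹
            = h * w⁻¹ * (v * (ψ cU * u * (ψ cU)⁻¹) * v⁻¹) * w * h⁻¹ := by group
          _ = y := by rw [hcu, ← hw]; group
      · rw [hfu] at hw
        refine ⟨h * w⁻¹, mul_mem hh (inv_mem (hcentH _ hwt)), ?_⟩
        rw [← hw]; group
    obtain ⟨m, hmH, rfl⟩ := hconj
    have := cfg.cent_le (x := m⁻¹ * x * m) (by
      calc m⁻¹ * x * m * u = m⁻¹ * (x * (m * u * m⁻¹)) * m := by group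
        _ = m⁻¹ * (m * u * m⁻¹ * x) * m := by rw [hxy]
        _ = u * (m⁻¹ * x * m) := by group)
    have := mul_mem (mul_mem hmH this) (inv_mem hmH)
    rwa [show m * (m⁻¹ * x * m) * m⁻¹ = x by group] at this
  have htop : H = ⊤ := ctrl.eq_top (hmem uH) cfg.uu cfg.u1 hnu' hC
  exact ⟨((MonoidHom.ofInjective hψi).trans ((MulEquiv.subgroupCongr htop).trans Subgroup.topEquiv)).symm.trans
    presentedEquiv.symm⟩

end Cfsg.Agent.TransvUniq.He
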